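import Cfsg.Agent.Lib.SP4.GGen
import Cfsg.Agent.Lib.SP4.G4Data
import Cfsg.Agent.Lib.PermCert.Basic

/-!
The group `2².PGL₃(4)`: lifts of collineations to a double cover of the set of hyperovals.
-/

set_option autoImplicit false
set_option maxRecDepth 100000

namespace Cfsg.Agent.SP4

open Cfsg.Agent.PC Equiv Subgroup Matrix

universe v

namespace G4

/-- The field with four elements. -/
def F4 : Type := Fin 4

instance : DecidableEq F4 := inferInstanceAs (DecidableEq (Fin 4))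
instance : Fintype F4 := inferInstanceAs (Fintype (Fin 4))

def F4.val (a : F4) : ℕ := Fin.val a
def F4.mk (n : ℕ) : F4 := Fin.ofNat 4 n

instance : Zero F4 := ⟨.mk 0⟩
instance : One F4 := ⟨.mk 1⟩
instance : Add F4 := ⟨fun a b => .mk (a.val ^^^ b.val)⟩
instance : Neg F4 := ⟨fun a => a⟩
instance : Mul F4 := ⟨fun a b => .mk (0x9c78e400 >>> (8 * a.val + 2 * b.val))⟩
instance : Inv F4 := ⟨fun a => a * a⟩

instance : Field F4 := Field.ofMinimalAxioms F4 (by decide) (by decide) (by decide) (by decide)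
  (by decide) (by decide) (by decide) (by decide) (by decide) (by decide)

noncomputable def nth (d : ℕ) (l : List ℕ) : ℕ → ℕ :=
  List.rec (fun _ => d) (fun v _ r i => Nat.rec v (fun j _ => r j) i) l

noncomputable def code (j : ℕ) : ℕ := nth idc cs j

theorem nth_mem (d : ℕ) (l : List ℕ) (j : ℕ) : nth d l j ∈ d :: l := by
  induction l generalizing j with
  | nil => exact List.mem_cons_self
  | cons a l ih =>
    cases j with
    | zero => exact List.mem_cons_of_mem _ List.mem_cons_self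
    | succ j =>
      rcases List.mem_cons.1 (ih j) with h | h
      · exact List.mem_cons.2 (.inl h)
      · exact List.mem_cons_of_mem _ (List.mem_cons_of_mem _ h)

theorem valid_all : allL (valid 336 9) (idc :: cs) = true := by decide +kernel

theorem exists_gen (j : ℕ) : ∃ σ, Rep 9 (Equiv.refl (Fin 336)) (code j) σ :=
  exists_rep (allL_iff.1 valid_all _ (nth_mem idc cs j))

noncomputable def gen (j : ℕ) : Perm (Fin 336) := (exists_gen j).choose

theorem gen_val (j : ℕ) (x : Fin 336) : (gen j x : ℕ) = ap 9 (code j) x :=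
  (exists_gen j).choose_spec x

/-- The permutation given by a word. -/
noncomputable def ev (l : List ℕ) : Perm (Fin 336) := (l.map gen).prod

noncomputable def apL (l : List ℕ) (i : ℕ) : ℕ := List.rec i (fun j _ r => ap 9 (code j) r) l

theorem ev_val (l : List ℕ) (x : Fin 336) : (ev l x : ℕ) = apL l x := by
  induction l with
  | nil => rfl
  | cons j l ih =>
    show (gen j (ev l x) : ℕ) = ap 9 (code j) (apL l x)
    rw [gen_val, ih]

theorem ev_append (l l' : List ℕ) : ev (l ++ l') = ev l * ev l' := by simp [ev]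

noncomputable def eqW (l l' : List ℕ) : Bool := allN (fun i => Nat.beq (apL l i) (apL l' i)) 336

theorem ev_eq {l l' : List ℕ} (h : eqW l l' = true) : ev l = ev l' :=
  Perm.ext fun x => Fin.ext (by
    rw [ev_val, ev_val]
    exact Nat.eq_of_beq_eq_true (allN_iff.1 h x x.2))

def wd (j : ℕ) (a : F4) : List ℕ := ![[], [j], [j + 1], [j, j + 1]] a

def wh (m n : F4) : List ℕ :=
  ![![[], [], [], []], ![[], [], [9], [9, 9]], ![[], [8, 9], [8, 9, 9], [8]],
    ![[], [8, 8, 9, 9], [8, 8], [8, 8, 9]]] m n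

theorem c₁ : ∀ j ∈ [0, 2, 4, 6], ∀ s t : F4, eqW (wd j s ++ wd j t) (wd j (s + t)) = true := by
  decide +kernel

theorem c₂ : ∀ j ∈ [(0, 4), (2, 4), (4, 6), (0, 6), (2, 6)], ∀ s t : F4,
    eqW (wd j.1 s ++ wd j.2 t) (wd j.2 t ++ wd j.1 s) = true := by
  decide +kernel

theorem c₃ : ∀ t a : F4, eqW (wd 0 t ++ wd 2 a)
    (wd 6 (t ^ 2 * a) ++ wd 4 (t * a) ++ wd 2 a ++ wd 0 t) = true := by
  decide +kernel

theorem c₄ : ∀ m : F4, m ≠ 0 → ∀ n : F4, n ≠ 0 → ∀ s : F4,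
    eqW (wh m n ++ wd 0 s) (wd 0 (m * s) ++ wh m n) = true ∧
    eqW (wh m n ++ wd 2 s) (wd 2 (n * s) ++ wh m n) = true ∧
    eqW (wh m n ++ wd 4 s) (wd 4 (m * n * s) ++ wh m n) = true ∧
    eqW (wh m n ++ wd 6 s) (wd 6 (m ^ 2 * n * s) ++ wh m n) = true := by
  decide +kernel

theorem c₅ : ∀ s : F4, eqW ([10] ++ wd 0 s) (wd 6 (s ^ 2) ++ [10]) = true ∧
    eqW ([10] ++ wd 4 s) (wd 4 s ++ [10]) = true ∧
    eqW ([10] ++ wd 6 s) (wd 0 (s ^ 2) ++ [10]) = true ∧
    eqW ([11] ++ wd 2 s) (wd 6 s ++ [11]) = true ∧ eqW ([11] ++ wd 4 s) (wd 4 s ++ [11]) = true ∧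
    eqW ([11] ++ wd 6 s) (wd 2 s ++ [11]) = true := by
  decide +kernel

theorem rel : Rel (fun s => ev (wd 0 s)) (fun s => ev (wd 2 s)) (fun s => ev (wd 4 s))
    (fun s => ev (wd 6 s)) (fun m n => ev (wh m n)) (ev [10]) (ev [11]) := by
  constructor <;> intros <;> simp only [← ev_append] <;> apply ev_eq
  exacts [c₁ 0 (by simp) .., c₁ 2 (by simp) .., c₁ 4 (by simp) .., c₁ 6 (by simp) ..,
    c₂ (0, 4) (by simp) .., c₂ (2, 4) (by simp) .., c₂ (4, 6) (by simp) .., c₂ (0, 6) (by simp) ..,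
    c₂ (2, 6) (by simp) .., c₃ .., (c₄ _ ‹_› _ ‹_› _).1, (c₄ _ ‹_› _ ‹_› _).2.1,
    (c₄ _ ‹_› _ ‹_› _).2.2.1, (c₄ _ ‹_› _ ‹_› _).2.2.2, (c₅ _).1, (c₅ _).2.1, (c₅ _).2.2.1,
    (c₅ _).2.2.2.1, (c₅ _).2.2.2.2.1, (c₅ _).2.2.2.2.2]

def vc (v : Fin 3 → F4) : ℕ := (v 0).val + 4 * (v 1).val + 16 * (v 2).val

def hm (x : ℕ) : ℕ := ap 64 HM (x / 2)

noncomputable def adj (x y : ℕ) : Bool := !allN (fun k => !Nat.beq (ap 9 NB (10 * x + k)) y) 10

theorem adj_iff {x y : ℕ} : adj x y = true ↔ ∃ k < 10, ap 9 NB (10 * x + k) = y := by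
  rw [adj, Bool.not_eq_true', ← Bool.not_eq_true, allN_iff]
  simp

def mat (c : ℕ) : Matrix (Fin 3) (Fin 3) F4 := Matrix.of fun i j => .mk (c >>> (6 * i.val + 2 * j.val))

/-- The lifts of the collineations. -/
noncomputable def Gt : Subgroup (GL (Fin 3) F4 × Perm (Fin 336)) :=
  let P : Submonoid (GL (Fin 3) F4 × Perm (Fin 336)) :=
    { carrier := {g | (∀ (x : Fin 336) v, (hm x).testBit (vc v) = true →
        (hm (g.2 x)).testBit (vc (g.1.1 *ᵥ v)) = true) ∧
        (∀ x y : Fin 336, adj x y = true → adj (g.2 x) (g.2 y) = true) ∧ Commute g.2 (gen 12)}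
      one_mem' := ⟨fun x v h => by simpa using h, fun _ _ h => h, Commute.one_left _⟩
      mul_mem' := fun {a b} ha hb => ⟨fun x v h => by
        simpa [← mulVec_mulVec] using ha.1 _ _ (hb.1 x v h), fun x y h => ha.2.1 _ _ (hb.2.1 x y h),
        ha.2.2.mul_left hb.2.2⟩ }
  { P with
    inv_mem' := fun {g} hg => by
      have : g⁻¹ = g ^ (orderOf g - 1) := inv_eq_of_mul_eq_one_right (by
        rw [← pow_succ', Nat.sub_add_cancel (orderOf_pos g), pow_orderOf_eq_one])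
      exact this ▸ P.pow_mem hg _ }

theorem d₁ : ∀ j < 13, mat (nth 0 mxs j) * mat (nth 0 mis j) = 1 ∧
    mat (nth 0 mis j) * mat (nth 0 mxs j) = 1 := by decide +kernel

theorem d₂ : ∀ j < 13, ∀ a b c : F4, vc (mat (nth 0 mxs j) *ᵥ ![a, b, c]) =
    ap 6 (nth 0 cvs j) (vc ![a, b, c]) := by decide +kernel

theorem d₃ : allN (fun j => allN (fun x => allN (fun n => !(hm x).testBit n ||
    (hm (ap 9 (code j) x)).testBit (ap 6 (nth 0 cvs j) n)) 64) 336) 13 = true := by decide +kernel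

theorem d₄ : allN (fun j => allN (fun x => allN (fun k => adj (ap 9 (code j) x)
    (ap 9 (code j) (ap 9 NB (10 * x + k)))) 10) 336) 13 = true := by decide +kernel

theorem d₅ : allN (fun j => eqW [j, 12] [12, j]) 13 = true := by decide +kernel

theorem d₆ : allN (fun x => allN (fun y => Nat.beq x y ||
    !Nat.beq (ap 64 HM x &&& ap 64 HM y) (ap 64 HM x)) 168) 168 = true := by decide +kernel

theorem d₇ : allN (fun x => Nat.beq (ap 9 (code 12) x / 2) (x / 2) &&
    !Nat.beq (ap 9 (code 12) x) x && (Nat.beq x 0 || Nat.beq x 2 || Nat.beq x 4 ||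
      Nat.blt (ap 9 PAR x) 336 && Nat.blt (ap 4 RK (ap 9 PAR x)) (ap 4 RK x) && adj (ap 9 PAR x) x &&
        !adj (ap 9 PAR x) (ap 9 (code 12) x))) 336 = true := by decide +kernel

theorem d₈ : ∀ n < 64, ∃ a b c : F4, vc ![a, b, c] = n := by decide +kernel

theorem d₉ : ∀ a b c : F4, vc ![a, b, c] < 64 := by decide +kernel

theorem e₁ : eqW [12, 12] [] = true := by decide +kernel

theorem e₂ : ∀ t a b c : F4, (∀ i ∈ [0, 2, 4], apL (wd 6 c ++ wd 4 b ++ wd 2 a ++ wd 0 t) i = i) ∨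
    (∀ i ∈ [0, 2, 4], apL (wd 6 c ++ wd 4 b ++ wd 2 a ++ wd 0 t) i = apL [12] i) →
    t = 0 ∧ a = 0 ∧ b = 0 ∧ c = 0 := by decide +kernel

theorem e₃ : (∀ j ∈ [0, 2, 4, 6], ∀ s : F4, ∀ i ∈ wd j s, i < 13) ∧
    ∀ m n : F4, ∀ i ∈ wh m n, i < 13 := by decide +kernel

theorem eta (v : Fin 3 → F4) : v = ![v 0, v 1, v 2] := funext fun i => by fin_cases i <;> rfl

/-- The image in the symmetric group. -/
noncomputable def G₁ : Subgroup (Perm (Fin 336)) := Gt.map (MonoidHom.snd _ _)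

theorem gen_mem {j : ℕ} (hj : j < 13) : gen j ∈ G₁ := by
  refine ⟨(⟨_, _, (d₁ j hj).1, (d₁ j hj).2⟩, gen j), ⟨fun x v h => ?_, fun x y h => ?_, ?_⟩, rfl⟩
  · have := allN_iff.1 (allN_iff.1 (allN_iff.1 d₃ j hj) x x.2) (vc v) (eta v ▸ d₉ _ _ _)
    rw [h, ← gen_val, eta v, ← d₂ j hj] at this
    rw [eta v]
    simpa using this
  · obtain ⟨k, hk, e⟩ := adj_iff.1 h
    have := allN_iff.1 (allN_iff.1 (allN_iff.1 d₄ j hj) x x.2) k hk
    rwa [e, ← gen_val, ← gen_val] at this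
  · show gen j * gen 12 = gen 12 * gen j
    simpa [ev] using ev_eq (allN_iff.1 d₅ j hj)

theorem ev_mem {l : List ℕ} (h : ∀ j ∈ l, j < 13) : ev l ∈ G₁ :=
  list_prod_mem fun _ hx => by
    obtain ⟨j, hj, rfl⟩ := List.mem_map.1 hx
    exact gen_mem (h j hj)

theorem zeta (x : Fin 336) : (gen 12 x : ℕ) / 2 = x / 2 ∧ (gen 12 x : ℕ) ≠ x ∧
    ((x : ℕ) = 0 ∨ (x : ℕ) = 2 ∨ (x : ℕ) = 4 ∨ ∃ y : Fin 336, ap 4 RK y < ap 4 RK x ∧
      adj y x = true ∧ adj y (gen 12 x) = false) := by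
  have := allN_iff.1 d₇ x x.2
  simp only [← gen_val, Bool.and_eq_true, Bool.or_eq_true, Nat.beq_eq, Bool.not_eq_true',
    Nat.blt_eq, ← Bool.not_eq_true (Nat.beq _ _)] at this
  refine ⟨this.1.1, this.1.2, ?_⟩
  rcases this.2 with ((h | h) | h) | ⟨⟨⟨h₁, h₂⟩, h₃⟩, h₄⟩
  exacts [.inl h, .inr (.inl h), .inr (.inr (.inl h)), .inr (.inr (.inr ⟨⟨_, h₁⟩, h₂, h₃, h₄⟩))]

theorem fiber {σ : Perm (Fin 336)} (h : (1, σ) ∈ Gt) (x : Fin 336) : σ x = x ∨ σ x = gen 12 x := by
  have h₁ := allN_iff.1 (allN_iff.1 d₆ (x / 2) (by omega)) (σ x / 2) (by omega)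
  have h₂ : hm x &&& hm (σ x) = hm x := Nat.eq_of_testBit_eq fun n => by
    rw [Nat.testBit_and]
    cases e : (hm x).testBit n
    · rfl
    have hn : n < 64 := by
      rw [hm, ap, Nat.testBit_mod_two_pow] at e
      simpa using (Bool.and_eq_true_iff.1 e).1
    obtain ⟨a, b, c, rfl⟩ := d₈ n hn
    simpa using h.1 x _ e
  rw [show ap 64 HM (x / 2) &&& ap 64 HM (σ x / 2) = ap 64 HM (x / 2) from h₂] at h₁
  simp only [Nat.beq_refl, Bool.not_true, Bool.or_false, Nat.beq_eq] at h₁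
  obtain ⟨h₃, h₄, -⟩ := zeta x
  simp only [Fin.ext_iff]
  omega

theorem eq_one {σ : Perm (Fin 336)} (h : (1, σ) ∈ Gt) (h₀ : σ 0 = 0) (h₂ : σ 2 = 2)
    (h₄ : σ 4 = 4) : σ = 1 := by
  suffices ∀ n, ∀ x : Fin 336, ap 4 RK x = n → σ x = x from Perm.ext fun x => this _ x rfl
  intro n
  induction n using Nat.strong_induction_on with
  | _ n ih =>
    rintro x rfl
    rcases (zeta x).2.2 with e | e | e | ⟨y, e₁, e₂, e₃⟩
    · rwa [show x = 0 from Fin.ext e]
    · rwa [show x = 2 from Fin.ext e]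
    · rwa [show x = 4 from Fin.ext e]
    refine (fiber h x).resolve_right fun e => ?_
    have := h.2.1 y x e₂
    rw [show ((1, σ) : GL (Fin 3) F4 × Perm (Fin 336)).2 = σ from rfl, ih _ e₁ y rfl, e, e₃] at this
    cases this

theorem card_G₁ : ¬ 2 ^ 10 ∣ Nat.card G₁ := by
  let π := (MonoidHom.fst _ _).comp Gt.subtype
  have mem : ∀ g : π.ker, (1, g.1.1.2) ∈ Gt := fun g => by
    rw [← show g.1.1.1 = 1 from g.2]; exact g.1.2
  have h₁ : Nat.card π.ker ≤ 8 := by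
    refine (Nat.card_le_card_of_injective (fun g : π.ker => (decide (g.1.1.2 0 = 0),
      decide (g.1.1.2 2 = 2), decide (g.1.1.2 4 = 4))) fun g g' e => ?_).trans (by simp)
    have key : ∀ x, decide (g.1.1.2 x = x) = decide (g'.1.1.2 x = x) →
        (g'⁻¹ * g).1.1.2 x = x := fun x hx => by
      have hx' := decide_eq_decide.1 hx
      refine Perm.inv_eq_iff_eq.2 ?_
      by_cases e : g.1.1.2 x = x
      · exact e.trans (hx'.1 e).symm
      · exact ((fiber (mem g) x).resolve_left e).trans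
          ((fiber (mem g') x).resolve_left (mt hx'.2 e)).symm
    simp only [Prod.mk.injEq] at e
    have := eq_one (mem (g'⁻¹ * g)) (key _ e.1) (key _ e.2.1) (key _ e.2.2)
    have e' : g'⁻¹ * g = 1 := Subtype.ext (Subtype.ext (Prod.ext (g'⁻¹ * g).2 this))
    exact (inv_mul_eq_one.1 e').symm
  have h₂ : Nat.card π.range ∣ 181440 := by
    have := card_subgroup_dvd_card π.range
    rwa [card_GL_field, show Fintype.card F4 = 4 from rfl, Fin.prod_univ_three] at this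
  intro hd
  have h₃ : 2 ^ 10 ∣ Nat.card π.ker * 181440 := by
    refine hd.trans ((card_map_dvd _ _).trans ?_)
    rw [← π.ker.card_mul_index, index_ker]
    exact Nat.mul_dvd_mul_left _ h₂
  have := Nat.card_pos (α := π.ker)
  omega

theorem real : Real F4 := by
  let ζ : G₁ := ⟨gen 12, gen_mem (by decide)⟩
  have hc : ∀ g : G₁, Commute g ζ := by
    rintro ⟨_, g, hg, rfl⟩
    exact Subtype.ext hg.2.2
  have hζ : orderOf ζ = 2 := orderOf_eq_prime
    (Subtype.ext (by simpa [ev, sq] using ev_eq e₁)) fun e => (zeta 0).2.1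
      (congrArg (fun g : G₁ => (g.1 0 : ℕ)) e)
  haveI : (zpowers ζ).Normal := ⟨by
    rintro _ ⟨n, rfl⟩ g
    rw [((hc g).zpow_right n).eq, mul_inv_cancel_right]
    exact ⟨n, rfl⟩⟩
  have R : Rel (G := G₁) (fun s => ⟨_, ev_mem (e₃.1 0 (by simp) s)⟩)
      (fun s => ⟨_, ev_mem (e₃.1 2 (by simp) s)⟩) (fun s => ⟨_, ev_mem (e₃.1 4 (by simp) s)⟩)
      (fun s => ⟨_, ev_mem (e₃.1 6 (by simp) s)⟩) (fun m n => ⟨_, ev_mem (e₃.2 m n)⟩)
      ⟨ev [10], ev_mem (by decide)⟩ ⟨ev [11], ev_mem (by decide)⟩ :=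
    Rel.comap G₁.subtype Subtype.val_injective rel
  refine (R.map (QuotientGroup.mk' (zpowers ζ))).real (by decide) (k := 8) rfl
    (fun hd => card_G₁ ?_) fun t a b c e => e₂ t a b c ?_
  · rw [card_eq_card_quotient_mul_card_subgroup (zpowers ζ), Nat.card_zpowers, hζ, pow_succ]
    exact Nat.mul_dvd_mul_right hd 2
  · simp only [← map_mul] at e
    rw [QuotientGroup.mk'_apply, QuotientGroup.eq_one_iff] at e
    have key : ∀ l, ev (wd 6 c ++ wd 4 b ++ wd 2 a ++ wd 0 t) = ev l →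
        ∀ i ∈ [0, 2, 4], apL (wd 6 c ++ wd 4 b ++ wd 2 a ++ wd 0 t) i = apL l i := fun l h i hi => by
      have hi' : i < 336 := by simp at hi; omega
      rw [← ev_val _ ⟨i, hi'⟩, ← ev_val _ ⟨i, hi'⟩, h]
    rw [mem_zpowers_iff_mem_range_orderOf, hζ] at e
    simp only [Finset.mem_image, Finset.mem_range] at e
    obtain ⟨n, hn, e⟩ := e
    have e' := congrArg Subtype.val e
    interval_cases n
    · exact .inl (key [] (by simpa [ev, mul_assoc] using e'.symm))
    · exact .inr (key [12] (by simpa [ev, mul_assoc, ζ] using e'.symm))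

end G4

theorem real_two : Real (ZMod 2) := by
  let x : Multiplicative (ZMod 2) × alternatingGroup (Fin 6) :=
    (.ofAdd 1, ⟨swap 0 2 * swap 1 3, by simp⟩)
  let y : Multiplicative (ZMod 2) × alternatingGroup (Fin 6) :=
    (.ofAdd 1, ⟨swap 0 1 * swap 4 5, by simp⟩)
  let r : Multiplicative (ZMod 2) × alternatingGroup (Fin 6) :=
    (.ofAdd 1, ⟨swap 0 1 * swap 2 3, by simp⟩)
  have R : Rel (K := ZMod 2) (fun s => x ^ s.val) (fun s => y ^ s.val) (fun s => (.ofAdd s, 1))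
      (fun s => r ^ s.val) (fun _ _ => 1) (1, ⟨swap 1 2 * swap 4 5, by simp⟩)
      (1, ⟨swap 2 4 * swap 3 5, by simp⟩) := by
    constructor <;> decide +kernel
  refine R.real (by decide) (k := 4) rfl ?_ (by decide +kernel)
  rw [Nat.card_prod, Nat.card_eq_fintype_card (α := alternatingGroup _), card_alternatingGroup]
  simp [Nat.factorial]

theorem gst : GStmt.{v} := fun K _ _ h => h.elim
  (fun h => real_two.transfer (FiniteField.ringEquivOfCardEq (by simpa using h)))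
  fun h => G4.real.transfer (FiniteField.ringEquivOfCardEq (K' := G4.F4) h)

end Cfsg.Agent.SP4
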