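import Cfsg.Agent.Lib.SP4.OddB2
import Cfsg.Agent.Lib.SP4.Defs

/-!
S5260, `p` odd: a saturated fusion system with `O_p(F) ≠ 1` on a Sylow subgroup of `Sp₄(q)` is
constrained.
-/

set_option autoImplicit false
set_option linter.style.haveILetI false
set_option linter.unusedVariables false
set_option linter.unusedSectionVars false

namespace Cfsg.Agent.SP4

open Subgroup Cfsg.Agent.Fus Cfsg.Agent.Ess
open Cfsg.Agent.Fus2 (M afn HomOn img)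

universe u v

namespace OB

variable {Ω : Type u} [Group Ω] {S : Subgroup Ω} {F : FusionSystem S} {p : ℕ}
  {K : Type v} [Field K] [Fintype K] [CharP K p]
  [Finite S] [hp : Fact p.Prime] (hS : IsPGroup p S) (hF : F.IsSaturated p) (D : Cd S K)
include hS hF

/-- Step B3. -/
theorem phi_of_ess (hSL : SL2Stmt.{u, v}) (h2 : (2 : K) ≠ 0) {k : K}
    (hE : F.IsEssential p (D.Ec k))
    (i₁ : ∀ β ∈ F.autGroup (D.Ec k), ∀ x ∈ D.Z, afn β x ∈ D.Z)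
    {γ : MulAut (D.Ec k)} (hγ : γ ∈ F.autGroup (D.Ec k)) {u : Ω} (hu : u ∈ D.Z2)
    (hγu : afn γ u ∉ D.A) {l : K} (hl : l ≠ 0) : ∃ φ, Phi D F k l φ := by
  haveI := finite_of_le (D.Ec_le k)
  have hx : ∀ x : D.Ec k, ∃ t b c, (x : Ω) = D.f t (k * t) b c := fun x => x.2
  choose t b c hx using hx
  have co : ∀ (x : D.Ec k) {t' a' b' c'}, (x : Ω) = D.f t' a' b' c' → t x = t' ∧ b x = b' :=
    fun x _ _ _ _ h => ⟨(D.inj ((hx x).symm.trans h)).1, (D.inj ((hx x).symm.trans h)).2.2.1⟩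
  have hZE : D.Z ≤ D.Ec k := D.Z_le_Z2.trans (D.Z2_le_Ec k)
  have hZ : ∀ x : D.Ec k, (x : Ω) ∈ D.Z ↔ t x = 0 ∧ b x - k * t x ^ 2 / 2 = 0 := fun x => by
    rw [hx x, D.mem_Z]
    exact ⟨fun h => ⟨h.1, by rw [h.1, h.2.2]; ring⟩,
      fun h => ⟨h.1, by rw [h.1, mul_zero], by simpa [h.1] using h.2⟩⟩
  have cj : ∀ (s α β δ : K) (τ : MulAut (D.Ec k)), (∀ x : D.Ec k,
      (τ x : Ω) = D.f s α β δ * x * (D.f s α β δ)⁻¹) → ∀ x, t (τ x) = t x ∧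
      b (τ x) - k * t (τ x) ^ 2 / 2 = b x - k * t x ^ 2 / 2 + (s * k - α) * t x := by
    intro s α β δ τ h x
    obtain ⟨h₁, h₂⟩ := co (τ x) (by rw [h x, hx x, D.conj])
    exact ⟨h₁, by rw [h₁, h₂]; ring⟩
  have hY : ∀ τ ∈ autInducedBy S (D.Ec k), τ ∈ F.autGroup (D.Ec k) ⊓
      trivSub (D.Z.subgroupOf (D.Ec k)) ⊥ bot_le := fun τ hτ => by
    refine ⟨autInducedBy_le_autGroup (D.Ec_le k) hτ, trivOn_bot_iff.2 fun x hx => ?_⟩
    obtain ⟨g, hg, e⟩ := mem_autInducedBy_iff.1 hτ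
    exact Subtype.ext ((e x).trans (D.conj_Z hx hg))
  have i₁' : ∀ β ∈ F.autGroup (D.Ec k), ∀ x : D.Ec k, (x : Ω) ∈ D.Z → (β x : Ω) ∈ D.Z :=
    fun β hβ x hx => by have := i₁ β hβ x hx; rwa [Fus2.afn_coe] at this
  obtain ⟨ψ, -, -, -, hh⟩ := hSL (sat_sylow hS hF hE.2.1) (Y := F.autGroup (D.Ec k) ⊓
      trivSub (D.Z.subgroupOf (D.Ec k)) ⊥ bot_le) t (fun x => b x - k * t x ^ 2 / 2)
    (fun x y => (co (x * y) (by rw [coe_mul, hx x, hx y, D.mul])).1)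
    (fun x y => by
      obtain ⟨h₁, h₂⟩ := co (x * y) (by rw [coe_mul, hx x, hx y, D.mul])
      show b (x * y) - k * t (x * y) ^ 2 / 2 = _
      rw [h₁, h₂]; field_simp; ring)
    (fun a' b' => ⟨⟨D.f a' (k * a') (b' + k * a' ^ 2 / 2) 0, D.mem_Ec.2 rfl⟩, by
      obtain ⟨h₁, h₂⟩ := co ⟨D.f a' (k * a') (b' + k * a' ^ 2 / 2) 0, D.mem_Ec.2 rfl⟩ rfl
      exact ⟨h₁, by simp only [h₁, h₂]; ring⟩⟩)
    (fun α hα x h₁ h₂ => (hZ _).1 (i₁' α hα x ((hZ x).2 ⟨h₁, h₂⟩)))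
    (fun τ hτ => by
      obtain ⟨g, hg, e⟩ := mem_autInducedBy_iff.1 hτ
      obtain ⟨s, α, β, δ, rfl⟩ := (D.mem _).1 hg
      exact ⟨_, cj s α β δ τ e⟩)
    (fun s => by
      have hN := D.le_normalizer (D.Ec_le k) (D.Z2_le_Ec k) (D.f_mem 0 (-s) 0 0)
      refine ⟨_, conjAut_mem_autInducedBy (D.f_mem 0 (-s) 0 0) hN, fun x => ?_⟩
      simpa using cj 0 (-s) 0 0 (conjAut _ _ hN) (fun x => rfl) x)
    hγ ⟨⟨u, D.Z2_le_Ec k hu⟩, by
      obtain ⟨b', c', rfl⟩ := hu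
      refine ⟨(co _ rfl).1, fun h => hγu ?_⟩
      rw [Fus2.afn_apply _ (D.Z2_le_Ec k (D.mem_Z2.2 ⟨rfl, rfl⟩)), hx, D.mem_A]
      exact h⟩ hY
    (fun τ hτ => mem_inf.2 ⟨mul_mem (mul_mem hγ (mem_inf.1 (hY τ hτ)).1) (inv_mem hγ),
      TrivOn.conj (hY τ hτ).2 (fun x hx => i₁' _ (inv_mem hγ) x hx) fun x hx => by
        simpa using hx⟩)
  obtain ⟨η, ⟨hη, hηZ⟩, hh⟩ := hh l⁻¹ (inv_ne_zero hl)
  refine exists_phi hS hF D h2 hl hE.2.1 hη (fun t' b' c' => ?_) (fun b' c' => ?_) fun c' => ?_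
  · have hm : D.f t' (k * t') b' c' ∈ D.Ec k := D.mem_Ec.2 rfl
    have := (hh ⟨_, hm⟩).1
    rw [(co ⟨_, hm⟩ rfl).1, div_inv_eq_mul, mul_comm t' l] at this
    exact ⟨_, _, by rw [Fus2.afn_apply _ hm, hx, this]⟩
  · have hm : D.f 0 0 b' c' ∈ D.Ec k := D.mem_Ec.2 (mul_zero k).symm
    obtain ⟨h₁, h₂⟩ := hh ⟨_, hm⟩
    obtain ⟨h₃, h₄⟩ := co ⟨_, hm⟩ rfl
    rw [h₃, zero_div] at h₁
    simp only [h₁, h₃, h₄, map_zero] at h₂
    refine ⟨_, by rw [Fus2.afn_apply _ hm, hx, h₁, mul_zero, show b (η ⟨_, hm⟩) = b' / l by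
      rw [div_eq_inv_mul]; linear_combination h₂]⟩
  · have hm : D.f 0 0 0 c' ∈ D.Z := D.mem_Z.2 ⟨rfl, rfl, rfl⟩
    rw [Fus2.afn_apply _ (hZE hm), trivOn_bot_iff.1 hηZ ⟨_, hZE hm⟩ hm]

/-- Step B5: `A` is not essential when the torus exists and the core lies in `Z`. -/
theorem not_ess_A (hA : OddAStmt.{u, v}) (hp2 : p ≠ 2) (hE : F.IsEssential p D.A) {k : K}
    (hφ : ∀ l ≠ 0, ∃ φ, Phi D F k l φ) (hcore : F.core ≠ ⊥) (hNZ : F.core ≤ D.Z) : False := by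
  haveI := finite_of_le D.A_le
  have hx : ∀ x : D.A, ∃ a b c, (x : Ω) = D.f 0 a b c := fun x => x.2
  choose a b c hx using hx
  have co : ∀ (x : D.A) {t' a' b' c'}, (x : Ω) = D.f t' a' b' c' → a x = a' ∧ b x = b' ∧ c x = c' :=
    fun x _ _ _ _ h => (D.inj ((hx x).symm.trans h)).2
  have cm : ∀ x y : D.A, a (x * y) = a x + a y ∧ b (x * y) = b x + b y ∧ c (x * y) = c x + c y :=
    fun x y => by have := co (x * y) (by rw [coe_mul, hx x, hx y, D.mul]); simpa using this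
  have cj : ∀ (s α β δ : K) (τ : MulAut D.A), (∀ x : D.A,
      (τ x : Ω) = D.f s α β δ * x * (D.f s α β δ)⁻¹) → ∀ x, a (τ x) = a x ∧
      b (τ x) = b x + s * a x ∧ c (τ x) = c x + 2 * s * b x + s ^ 2 * a x := by
    intro s α β δ τ h x
    have := co (τ x) (by rw [h x, hx x, D.conj])
    simpa using this
  have hsc := Fus2.sc_of_isNormal (Fus2.isNormal_core F)
  have hNA : F.core ≤ D.A := hNZ.trans (D.Z_le_Z2.trans D.Z2_le_A)
  have key := hA hp2 (sat_sylow hS hF hE.2.1) a b c (fun x y => (cm x y).1)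
    (fun x y => (cm x y).2.1) (fun x y => (cm x y).2.2)
    (fun x y h₁ h₂ h₃ => Subtype.ext (by rw [hx x, hx y, h₁, h₂, h₃]))
    (fun r s t => ⟨⟨D.f 0 r s t, D.mem_A.2 rfl⟩, co _ rfl⟩)
    (fun τ hτ => by
      obtain ⟨g, hg, e⟩ := mem_autInducedBy_iff.1 hτ
      obtain ⟨s, α, β, δ, rfl⟩ := (D.mem _).1 hg
      exact ⟨_, cj s α β δ τ e⟩)
    (fun s => by
      have hN := D.le_normalizer D.A_le D.Z2_le_A (D.f_mem s 0 0 0)
      exact ⟨_, conjAut_mem_autInducedBy (D.f_mem s 0 0 0) hN,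
        cj s 0 0 0 (conjAut _ _ hN) fun x => rfl⟩)
    (fun l hl => by
      obtain ⟨φ, h⟩ := hφ l hl
      obtain ⟨β, hβ, e⟩ := (h.m.mono D.A_le).exists_aut' (by
        rintro _ ⟨a, b, c, rfl⟩
        obtain ⟨b', c', h⟩ := h.a a b c
        rw [h]; exact D.mem_A.2 rfl)
      refine ⟨β, hβ, fun x h₁ h₂ => Subtype.ext ?_, fun x h₁ => ?_⟩
      · rw [← Fus2.afn_coe, e _ x.2, hx x, h₁, h₂, h.c]
      · obtain ⟨c', h'⟩ := h.b (b x) (c x)
        exact (co (β x) (by rw [← Fus2.afn_coe, e _ x.2, hx x, h₁, h'])).2.1)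
    (F.core.subgroupOf D.A)
    (fun e => hcore (by rw [← map_subgroupOf_eq_of_le hNA, e, Subgroup.map_bot]))
    (fun x h => by have := hNZ h; rw [show (D.A.subtype x : Ω) = x from rfl, hx x, D.mem_Z] at this
                   exact this.2)
    (fun α hα x h => by
      have := afn_mem_of_sc D.A_le hα hsc x.2 h
      rwa [Fus2.afn_coe] at this)
  refine not_inv hS hF D hE (fun β hβ x h h' => ?_) fun β hβ x h h' => ?_
  · obtain ⟨c', rfl⟩ := h'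
    obtain ⟨h₁, h₂, -⟩ := co ⟨_, h⟩ rfl
    rw [Fus2.afn_apply _ h, hx, D.mem_Z]
    exact ⟨rfl, (key β hβ _ h₁).1, (key β hβ _ h₁).2 h₂⟩
  · obtain ⟨b', c', rfl⟩ := h'
    rw [Fus2.afn_apply _ h, hx, D.mem_Z2]
    exact ⟨rfl, (key β hβ _ (co ⟨_, h⟩ rfl).1).1⟩

include D in
theorem unique_ess (hSL : SL2Stmt.{u, v}) (hA : OddAStmt.{u, v}) (hp2 : p ≠ 2)
    (hcore : F.core ≠ ⊥) {E E' : Subgroup Ω} (hE : F.IsEssential p E)
    (hE' : F.IsEssential p E') : E = E' := by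
  have h2 : (2 : K) ≠ 0 := fun h => hp2 ((Nat.prime_dvd_prime_iff_eq hp.out Nat.prime_two).1
    ((CharP.cast_eq_zero_iff K p 2).1 (by exact_mod_cast h)))
  have both : ∀ {E : Subgroup Ω}, F.IsEssential p D.A → F.IsEssential p E → E = D.A := by
    intro E hEA hE
    rcases ess_cases hS hF D h2 hcore hE with h | ⟨k, rfl, i₁, γ, hγ, u, hu, hγu⟩
    · exact h
    refine (not_ess_A hS hF D hA hp2 hEA
      (fun l hl => phi_of_ess hS hF D hSL h2 hE i₁ hγ hu hγu hl) hcore fun n hn => ?_).elim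
    have hO := Fus2.isNormal_core F
    have hNE := le_of_isNormal_of_essential hS hF hO (Or.inr hE)
    have hNA := le_of_isNormal_of_essential hS hF hO (Or.inr hEA)
    have huE := D.Z2_le_Ec k hu
    have h := Fus2.homOn_afn γ
    have := i₁ _ (inv_mem hγ) _ (D.mem_Z_of_comm h2 (D.Ec_le k (Fus2.afn_mem γ huE)) hγu
      (hNA (afn_mem_of_sc hE.1.1 hγ (Fus2.sc_of_isNormal hO) (hNE hn) hn)) (by
        rw [← h.map_mul huE (hNE hn), ← h.map_mul (hNE hn) huE,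
          D.A_comm (D.Z2_le_A hu) (hNA hn)]))
    rwa [Fus2.afn_inv_afn] at this
  rcases ess_cases hS hF D h2 hcore hE with rfl | ⟨k, rfl, i₁, γ, hγ, u, hu, hγu⟩
  · exact (both hE hE').symm
  rcases ess_cases hS hF D h2 hcore hE' with rfl | ⟨k', rfl, i₁', γ', hγ', u', hu', hγu'⟩
  · exact both hE' hE
  obtain ⟨φ, h⟩ := phi_of_ess hS hF D hSL h2 hE i₁ hγ hu hγu (neg_ne_zero.2 one_ne_zero)
  obtain ⟨φ', h'⟩ := phi_of_ess hS hF D hSL h2 hE' i₁' hγ' hu' hγu' (neg_ne_zero.2 one_ne_zero)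
  rw [eq_of_phi hS hF D h2 h h']

end OB

/-- `p` odd: a saturated fusion system on a Sylow subgroup of `Sp₄(q)` with nontrivial core has a
normal centric subgroup. -/
theorem oddB (hSL : SL2Stmt.{u, v}) (hA : OddAStmt.{u, v}) {Ω : Type u} [Group Ω]
    {S : Subgroup Ω} [Finite S] {p : ℕ} [Fact p.Prime] (hp2 : p ≠ 2) {K : Type v} [Field K]
    [Fintype K] [CharP K p] (D : Co S K) (hS : IsPGroup p S) {F : FusionSystem S}
    (hF : F.IsSaturated p) (hcore : F.core ≠ ⊥) :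
    ∃ Q, F.IsNormal Q ∧ FusionSystem.centralizerIn S Q ≤ Q := by
  let D' : OB.Cd S K := ⟨D.f, D.mul, D.inj, D.mem_iff⟩
  by_cases h : ∃ E, F.IsEssential p E
  · obtain ⟨E₁, hE₁⟩ := h
    refine ⟨E₁, isNormal_of_essential hS hF ?_, IsCentric_centralizerIn_le hE₁.1⟩
    rintro E (rfl | hE)
    · exact ⟨hE₁.1.1, fun α hα x hx => (OB.unique_ess hS hF D' hSL hA hp2 hcore
        (isEssential_img hE₁ (M_afn le_rfl hα)) hE₁).le (Fus2.mem_img_of_mem _ hx)⟩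
    · obtain rfl := OB.unique_ess hS hF D' hSL hA hp2 hcore hE hE₁
      exact ⟨le_rfl, fun α _ x hx => Fus2.afn_mem α hx⟩
  · exact ⟨S, (isNormal_top_iff hS hF).2 fun E hE => h ⟨E, hE⟩, centralizerIn_le _⟩

end Cfsg.Agent.SP4
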