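import Cfsg.Agent.Lib.SP4.Even4
import Cfsg.Agent.Lib.SP4.OddB
import Cfsg.Agent.Lib.SP4.G4

/-!
Exotic systems over a Sylow subgroup of `Sp₄(q)` are core free, given the cubic module lemma.
-/

set_option autoImplicit false

namespace Cfsg.Agent.SP4

universe u v

theorem s5260_of (hA : OddAStmt.{u, v}) {Ω : Type u} [Group Ω] {S : Subgroup Ω} [Finite S] (p : ℕ)
    [Fact p.Prime] (hS : IsPGroup p S) (F : FusionSystem S) (hF : F.IsSaturated p) {K : Type v}
    [Field K] [Fintype K] [CharP K p] (T : Sylow p (Matrix.symplecticGroup (Fin 2) K))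
    (e : S ≃* (T : Subgroup (Matrix.symplecticGroup (Fin 2) K))) (hex : F.IsExotic p) :
    F.core = ⊥ := by
  obtain ⟨D⟩ := exists_co T e
  by_contra hc
  by_cases h2 : p = 2
  · subst h2
    exact hex.2 (even gst hS hF D hc)
  · obtain ⟨Q, h₁, h₂⟩ := oddB sl2 hA h2 D hS hF hc
    obtain ⟨G, _, ι, h₃, h₄, h₅, -⟩ := Biset.exists_model hS hF h₁ h₂
    exact hex.2 ⟨G, _, h₃, ι, h₄, h₅⟩

end Cfsg.Agent.SP4
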