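import Cfsg.Agent.Lib.SP4.Defs

/-!
Coordinates from generators and relations in characteristic `2`.
-/

set_option autoImplicit false

namespace Cfsg.Agent.SP4

open Subgroup

universe u v

/-- The conclusion of `GStmt`. -/
def Real (K : Type v) [Field K] : Prop :=
  ∃ (G : Type) (_ : Group G) (_ : Finite G) (T : Sylow 2 G) (D : Co (T : Subgroup G) K)
    (w₁ w₂ : G), (∀ x ≠ 0, ∀ y ≠ 0, ∃ h : G, ∀ t a b c, h * D.f t a b c * h⁻¹ =
      D.f (x * t) (y * a) (x * y * b) (x ^ 2 * y * c)) ∧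
    (∀ t b c, w₁ * D.f t 0 b c * w₁⁻¹ = D.f (c ^ 2) 0 b (t ^ 2)) ∧
    ∀ a b c, w₂ * D.f 0 a b c * w₂⁻¹ = D.f 0 c b a

theorem Real.transfer {K : Type v} {K' : Type u} [Field K] [Field K'] (e : K ≃+* K')
    (h : Real K') : Real K := by
  obtain ⟨G, _, _, T, D, w₁, w₂, h₁, h₂, h₃⟩ := h
  refine ⟨G, _, inferInstance, T, ⟨fun t a b c => D.f (e t) (e a) (e b) (e c), fun x =>
    (D.mem_iff x).trans ⟨fun ⟨t, a, b, c, h⟩ => ⟨e.symm t, e.symm a, e.symm b, e.symm c, by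
      simpa using h⟩, fun ⟨t, a, b, c, h⟩ => ⟨_, _, _, _, h⟩⟩, fun t a b c t' a' b' c' => by
      simp [D.mul, map_ofNat], fun h => by simpa using D.inj h⟩, w₁, w₂, fun x hx y hy => ?_,
    fun t b c => by simpa using h₂ (e t) (e b) (e c), fun a b c => by
      simpa using h₃ (e a) (e b) (e c)⟩
  obtain ⟨h, hh⟩ := h₁ (e x) (by simpa using hx) (e y) (by simpa using hy)
  exact ⟨h, fun t a b c => by simpa using hh (e t) (e a) (e b) (e c)⟩

variable {K : Type} [Field K] {G H : Type} [Group G] [Group H]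

/-- The relations. -/
structure Rel (x y z r : K → G) (h : K → K → G) (w₁ w₂ : G) : Prop where
  xx : ∀ s t, x s * x t = x (s + t)
  yy : ∀ s t, y s * y t = y (s + t)
  zz : ∀ s t, z s * z t = z (s + t)
  rr : ∀ s t, r s * r t = r (s + t)
  xz : ∀ s t, x s * z t = z t * x s
  yz : ∀ s t, y s * z t = z t * y s
  zr : ∀ s t, z s * r t = r t * z s
  xr : ∀ s t, x s * r t = r t * x s
  yr : ∀ s t, y s * r t = r t * y s
  xy : ∀ t a, x t * y a = r (t ^ 2 * a) * z (t * a) * y a * x t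
  hx : ∀ m ≠ 0, ∀ n ≠ 0, ∀ s, h m n * x s = x (m * s) * h m n
  hy : ∀ m ≠ 0, ∀ n ≠ 0, ∀ s, h m n * y s = y (n * s) * h m n
  hz : ∀ m ≠ 0, ∀ n ≠ 0, ∀ s, h m n * z s = z (m * n * s) * h m n
  hr : ∀ m ≠ 0, ∀ n ≠ 0, ∀ s, h m n * r s = r (m ^ 2 * n * s) * h m n
  ax : ∀ s, w₁ * x s = r (s ^ 2) * w₁
  az : ∀ s, w₁ * z s = z s * w₁
  ar : ∀ s, w₁ * r s = x (s ^ 2) * w₁
  bx : ∀ s, w₂ * y s = r s * w₂
  bz : ∀ s, w₂ * z s = z s * w₂
  br : ∀ s, w₂ * r s = y s * w₂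

variable {x y z r : K → G} {h : K → K → G} {w₁ w₂ : G}

theorem Rel.map (R : Rel x y z r h w₁ w₂) (π : G →* H) :
    Rel (fun s => π (x s)) (fun s => π (y s)) (fun s => π (z s)) (fun s => π (r s))
      (fun m n => π (h m n)) (π w₁) (π w₂) := by
  constructor <;> intros <;> simp only [← map_mul] <;> congr 1
  exacts [R.xx .., R.yy .., R.zz .., R.rr .., R.xz .., R.yz .., R.zr .., R.xr .., R.yr .., R.xy ..,
    R.hx _ ‹_› _ ‹_› _, R.hy _ ‹_› _ ‹_› _, R.hz _ ‹_› _ ‹_› _, R.hr _ ‹_› _ ‹_› _, R.ax _, R.az _,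
    R.ar _, R.bx _, R.bz _, R.br _]

theorem Rel.comap (π : G →* H) (hπ : Function.Injective π)
    (R : Rel (fun s => π (x s)) (fun s => π (y s)) (fun s => π (z s)) (fun s => π (r s))
      (fun m n => π (h m n)) (π w₁) (π w₂)) : Rel x y z r h w₁ w₂ := by
  constructor <;> intros <;> apply hπ <;> simp only [map_mul]
  exacts [R.xx .., R.yy .., R.zz .., R.rr .., R.xz .., R.yz .., R.zr .., R.xr .., R.yr .., R.xy ..,
    R.hx _ ‹_› _ ‹_› _, R.hy _ ‹_› _ ‹_› _, R.hz _ ‹_› _ ‹_› _, R.hr _ ‹_› _ ‹_› _, R.ax _, R.az _,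
    R.ar _, R.bx _, R.bz _, R.br _]

theorem Rel.real [Fintype K] [Finite G] (R : Rel x y z r h w₁ w₂) (h2 : (2 : K) = 0) {k : ℕ}
    (hk : Fintype.card K ^ 4 = 2 ^ k) (hG : ¬ 2 ^ (k + 1) ∣ Nat.card G)
    (hi : ∀ t a b c, r c * z b * y a * x t = 1 → t = 0 ∧ a = 0 ∧ b = 0 ∧ c = 0) : Real K := by
  have one : ∀ {u : K → G}, (∀ s t, u s * u t = u (s + t)) → u 0 = 1 := fun hu =>
    mul_left_cancel ((hu 0 0).trans (by rw [add_zero, mul_one]))
  have left : ∀ {a b c d : G}, a * b = c * d → ∀ g, a * (b * g) = c * (d * g) := fun e g => by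
    rw [← mul_assoc, e, mul_assoc]
  have left' : ∀ {a b c : G}, a * b = c → ∀ g, a * (b * g) = c * g := fun e g => by
    rw [← mul_assoc, e]
  let f : K → K → K → K → G := fun t a b c => r c * z b * y a * x t
  have mul : ∀ t a b c t' a' b' c', f t a b c * f t' a' b' c' =
      f (t + t') (a + a') (b + b' + t * a') (c + c' + 2 * t * b' + t ^ 2 * a') :=
    fun t a b c t' a' b' c' => by
      simp only [f, mul_assoc, left (R.xr _ _), left (R.xz _ _), left' (R.xy _ _), left (R.yr _ _),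
        left (R.yz _ _), left (R.zr _ _), left' (R.rr _ _), left' (R.zz _ _), left' (R.yy _ _), R.xx,
        h2, zero_mul, add_zero, add_assoc]
  have f0 : f 0 0 0 0 = 1 := by simp [f, one R.xx, one R.yy, one R.zz, one R.rr]
  have finv : ∀ t a b c, f t a b c * f t a (b + t * a) (c + t ^ 2 * a) = 1 := fun t a b c => by
    rw [mul, ← f0]
    congr 1 <;> [skip; skip; skip; skip] <;> grind
  have inj : ∀ {t a b c t' a' b' c'}, f t a b c = f t' a' b' c' →
      t = t' ∧ a = a' ∧ b = b' ∧ c = c' := fun {t a b c t' a' b' c'} e => by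
    have := finv t' a' b' c'
    rw [← e, mul] at this
    obtain ⟨e₁, e₂, e₃, e₄⟩ := hi _ _ _ _ this
    obtain rfl : t = t' := by grind
    obtain rfl : a = a' := by grind
    exact ⟨rfl, rfl, by grind, by grind⟩
  let U : Subgroup G :=
    { carrier := {g | ∃ t a b c, g = f t a b c}
      one_mem' := ⟨0, 0, 0, 0, f0.symm⟩
      mul_mem' := by rintro _ _ ⟨t, a, b, c, rfl⟩ ⟨t', a', b', c', rfl⟩; exact ⟨_, _, _, _, mul ..⟩
      inv_mem' := by rintro _ ⟨t, a, b, c, rfl⟩; exact ⟨_, _, _, _, inv_eq_of_mul_eq_one_right (finv ..)⟩ }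
  have hU : Nat.card U = 2 ^ k := by
    rw [← hk, ← Nat.card_congr (Equiv.ofBijective (fun v : K × K × K × K =>
      (⟨f v.1 v.2.1 v.2.2.1 v.2.2.2, _, _, _, _, rfl⟩ : U)) ⟨fun v w e => by
        obtain ⟨e₁, e₂, e₃, e₄⟩ := inj (congrArg Subtype.val e)
        exact Prod.ext e₁ (Prod.ext e₂ (Prod.ext e₃ e₄)), by
        rintro ⟨_, t, a, b, c, rfl⟩; exact ⟨(t, a, b, c), rfl⟩⟩)]
    simp [pow_succ, mul_assoc]
  let T : Sylow 2 G := (IsPGroup.of_card hU).toSylow fun hd => hG (by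
    rw [← U.card_mul_index, hU, pow_succ]
    exact Nat.mul_dvd_mul_left _ hd)
  refine ⟨G, _, inferInstance, T, ⟨f, fun _ => Iff.rfl, mul, inj⟩, w₁, w₂, fun m hm n hn =>
    ⟨h m n, fun t a b c => mul_inv_eq_iff_eq_mul.2 ?_⟩, fun t b c => mul_inv_eq_iff_eq_mul.2 ?_,
    fun a b c => mul_inv_eq_iff_eq_mul.2 ?_⟩
  · simp only [f, mul_assoc, left (R.hr m hm n hn _), left (R.hz m hm n hn _),
      left (R.hy m hm n hn _), R.hx m hm n hn]
  · simp only [f, mul_assoc, one R.yy, one_mul, left (R.ar _), left (R.az _), R.ax,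
      left (R.xz _ _), left (R.xr _ _), left (R.zr _ _)]
  · simp only [f, mul_assoc, one R.xx, mul_one, one_mul, left (R.br _), left (R.bz _), R.bx,
      left (R.yz _ _), left (R.yr _ _), left (R.zr _ _)]

end Cfsg.Agent.SP4
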