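import Cfsg.Agent.Lib.SP4.SL2

/-!
Counting tools for the cubic module.
-/

set_option autoImplicit false

namespace Cfsg.Agent.SP4.OA

open Subgroup MulAction

variable {Γ β : Type*} [Group Γ] [MulAction Γ β]

theorem os (X : Subgroup Γ) (x : β) :
    Nat.card X = (orbit X x).ncard * Nat.card (X ⊓ stabilizer Γ x : Subgroup Γ) := by
  rw [← index_stabilizer, ← (stabilizer X x).index_mul_card, ← Fit.card_subgroupOf_of_le
    (inf_le_left : X ⊓ stabilizer Γ x ≤ X), inf_subgroupOf_left]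
  rfl

theorem div [Finite β] (X : Subgroup Γ) (d : ℕ) (D : Set β) (hD : ∀ g ∈ X, ∀ x ∈ D, g • x ∈ D)
    (h : ∀ x ∈ D, Nat.card (X ⊓ stabilizer Γ x : Subgroup Γ) ∣ d) : Nat.card X ∣ d * D.ncard := by
  induction hn : D.ncard using Nat.strong_induction_on generalizing D with
  | _ n ih =>
    subst hn
    rcases D.eq_empty_or_nonempty with rfl | ⟨x, hx⟩
    · simp
    have hO : orbit X x ⊆ D := by rintro _ ⟨g, rfl⟩; exact hD g g.2 x hx
    rw [← Set.ncard_diff_add_ncard_of_subset hO, mul_add]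
    refine dvd_add (ih _ (Set.ncard_lt_ncard ⟨Set.diff_subset, fun h' =>
      (h' hx).2 (mem_orbit_self x)⟩ (Set.toFinite _)) (D \ orbit X x) ?_
        (fun y hy => h y hy.1) rfl) ?_
    · rintro g hg y ⟨hy, hy'⟩
      refine ⟨hD g hg y hy, fun ⟨k, hk⟩ => hy' ⟨⟨g, hg⟩⁻¹ * k, ?_⟩⟩
      exact (mul_smul _ _ _).trans (inv_smul_eq_iff.2 hk)
    · rw [os X x, mul_comm d]
      exact Nat.mul_dvd_mul_left _ (h x hx)

theorem arith {p n r : ℕ} (hp : p.Prime) (hp2 : p ≠ 2) (hn : 2 ≤ n) (hr : 1 ≤ r)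
    (h₁ : 1 + r ∣ 2 * (1 + p ^ n * r)) (h₂ : p ^ n - 1 ∣ 2 * n * r) : False := by
  have h3 : 3 ≤ p := hp.two_le.lt_of_ne' hp2
  obtain ⟨m, hm⟩ : ∃ m, p ^ n = m + 1 := ⟨_, (Nat.sub_add_cancel (Nat.one_le_pow _ _ hp.pos)).symm⟩
  rw [hm] at h₁
  rw [hm, Nat.add_sub_cancel] at h₂
  have h₃ : 1 + r ∣ 2 * m := (Nat.dvd_add_right h₁).1 ⟨2 * (m + 1), by ring⟩
  have h₄ : 1 + r ∣ 4 * n := (show (1 + r).Coprime r by simp).dvd_of_dvd_mul_right
    (h₃.trans (by rw [show 4 * n * r = 2 * (2 * n * r) by ring]; exact Nat.mul_dvd_mul_left 2 h₂))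
  have h₅ := Nat.le_of_dvd (by omega) h₄
  have h₆ := Nat.le_of_dvd (by positivity) h₂
  have h₇ : 3 ^ n ≤ m + 1 := hm ▸ Nat.pow_le_pow_left h3 n
  have h₈ : n ≤ 4 := by
    by_contra hc
    have : ∀ k, 8 * (k + 5) ^ 2 < 3 ^ (k + 5) := fun k => by
      induction k with
      | zero => norm_num
      | succ k ih => rw [show k + 1 + 5 = k + 5 + 1 by ring, pow_succ 3]; nlinarith [Nat.zero_le k]
    have := this (n - 5)
    rw [Nat.sub_add_cancel (by omega)] at this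
    nlinarith
  have h₉ : p ≤ 5 := by
    by_contra hc
    have : 6 ^ n ≤ m + 1 := hm ▸ Nat.pow_le_pow_left (by omega) n
    interval_cases n <;> omega
  have h4 : p ≠ 4 := by rintro rfl; norm_num at hp
  interval_cases n <;> interval_cases p <;> first
    | exact h4 rfl
    | (obtain rfl := Nat.eq_sub_of_add_eq hm.symm
       norm_num at h₂ h₄
       have : r ≤ 15 := by omega
       interval_cases r <;> omega)

end Cfsg.Agent.SP4.OA
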