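import Cfsg.Agent.Lib.SP4.OddA1

/-!
The cubic module: the normalizer of the fixed space of the Sylow subgroup.
-/

set_option autoImplicit false
set_option linter.unusedSectionVars false

namespace Cfsg.Agent.SP4.OA

open Subgroup MulAction Equiv Cfsg.Agent.Fus
open scoped Pointwise

variable {K : Type*} [Field K]

def tau (s : K) : Perm (K × K × K) where
  toFun v := (v.1, v.2.1 + s * v.1, v.2.2 + 2 * s * v.2.1 + s ^ 2 * v.1)
  invFun v := (v.1, v.2.1 - s * v.1, v.2.2 - 2 * s * v.2.1 + s ^ 2 * v.1)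
  left_inv v := by ext <;> simp <;> ring
  right_inv v := by ext <;> simp <;> ring

@[simp] theorem tau_apply (s : K) (v : K × K × K) :
    tau s v = (v.1, v.2.1 + s * v.1, v.2.2 + 2 * s * v.2.1 + s ^ 2 * v.1) := rfl

theorem tau_mul (s r : K) : tau s * tau r = tau (s + r) := by
  ext <;> simp <;> ring

theorem tau_mid (s b c : K) : tau s (0, b, c) = (0, b, c) + (0, 0, 2 * s * b) := by simp

theorem tau_zero : tau (0 : K) = 1 := by ext <;> simp

theorem tau_inv (s : K) : (tau s)⁻¹ = tau (-s) :=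
  inv_eq_of_mul_eq_one_right (by rw [tau_mul, add_neg_cancel, tau_zero])

theorem tau_inj {s r : K} (h : tau s = tau r) : s = r := by
  simpa using congrArg (fun g : Perm (K × K × K) => (g (1, 0, 0)).2.1) h

def dl : Perm (K × K × K) where
  toFun v := (v.1, -v.2.1, v.2.2)
  invFun v := (v.1, -v.2.1, v.2.2)
  left_inv v := by simp
  right_inv v := by simp

@[simp] theorem dl_apply (v : K × K × K) : dl v = (v.1, -v.2.1, v.2.2) := rfl

theorem dl_dl : (dl : Perm (K × K × K)) * dl = 1 := by ext <;> simp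

theorem dl_tau (s : K) : dl * tau s = tau (-s) * dl := by
  ext <;> simp <;> ring

def Zs : Set (K × K × K) := {v | v.1 = 0 ∧ v.2.1 = 0}

def Fx (B : Set K) : Subgroup (Perm (K × K × K)) where
  carrier := {h | ∀ c ∈ B, h (0, 0, c) = (0, 0, c)}
  one_mem' _ _ := rfl
  mul_mem' ha hb c hc := by rw [Perm.mul_apply, hb c hc, ha c hc]
  inv_mem' ha c hc := Perm.inv_eq_iff_eq.2 (ha c hc).symm

theorem tau_mem_Fx (s : K) (B : Set K) : tau s ∈ Fx B := fun c _ => by simp

theorem eq_of_mem_Zs {v : K × K × K} (h : v ∈ Zs) : v = (0, 0, v.2.2) :=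
  Prod.ext h.1 (Prod.ext h.2 rfl)

variable [Fintype K]

theorem mem_stab_iff {h : Perm (K × K × K)} :
    h ∈ stabilizer (Perm (K × K × K)) (Zs : Set (K × K × K)) ↔ ∀ c, h (0, 0, c) ∈ Zs := by
  rw [mem_stabilizer_set_iff_smul_set_subset (Set.toFinite _)]
  exact ⟨fun H c => H ⟨_, ⟨rfl, rfl⟩, rfl⟩, by
    rintro H _ ⟨v, hv, rfl⟩; rw [eq_of_mem_Zs hv]; exact H _⟩

theorem Fx_le : Fx Set.univ ≤ stabilizer (Perm (K × K × K)) (Zs : Set (K × K × K)) :=
  fun h hh => mem_stab_iff.2 fun c => by rw [hh c trivial]; exact ⟨rfl, rfl⟩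

/-- The hypotheses. -/
structure St (p : ℕ) (A T : Subgroup (Perm (K × K × K))) : Prop where
  odd : p ≠ 2
  syl : IsSylowIn p T A
  add : ∀ α ∈ A, ∀ u v, α (u + v) = α u + α v
  mem : ∀ t, t ∈ T ↔ ∃ s, t = tau s
  phi : ∀ l ≠ 0, ∃ φ ∈ A, φ ∈ Fx Set.univ ∧ ∀ b c, (φ (0, b, c)).2.1 = b / l
  neg : ∀ h ∈ A, h ∈ Fx Set.univ → (∃ b c, (h (0, b, c)).1 ≠ 0) →
    ∃ k ∈ A, k ∈ Fx Set.univ ∧ ∀ v, (k v).1 = -v.1 ∧ (k v).2.1 = -v.2.1

/-- `h` acts as a scalar on the factors of the flag. -/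
structure Sc (h : Perm (K × K × K)) (l : K) : Prop where
  ne : l ≠ 0
  fx : h ∈ Fx Set.univ
  top : ∀ v, (h v).1 = v.1 / l ^ 2
  mid : ∀ v, v.1 = 0 → (h v).2.1 = v.2.1 / l

theorem Sc.mul {h k : Perm (K × K × K)} {l m : K} (a : Sc h l) (b : Sc k m) : Sc (h * k) (l * m) :=
  ⟨mul_ne_zero a.ne b.ne, mul_mem a.fx b.fx, fun v => by
    rw [Perm.mul_apply, a.top, b.top]; ring, fun v hv => by
    rw [Perm.mul_apply, a.mid _ (by rw [b.top, hv, zero_div]), b.mid v hv]; ring⟩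

theorem Sc.unique {h : Perm (K × K × K)} {l m : K} (a : Sc h l) (b : Sc h m) : l = m := by
  simpa using (a.mid (0, 1, 0) rfl).symm.trans (b.mid (0, 1, 0) rfl)

theorem sc_tau (s : K) : Sc (tau s) 1 :=
  ⟨one_ne_zero, tau_mem_Fx s _, fun v => by simp, fun v hv => by simp [hv]⟩

theorem sc_dl : Sc (dl : Perm (K × K × K)) (-1) :=
  ⟨by simp, fun c _ => by simp, fun v => by simp, fun v hv => by simp [div_neg]⟩

variable {p : ℕ} [hp : Fact p.Prime] [CharP K p] {A T : Subgroup (Perm (K × K × K))}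
  (h : St p A T)
include h

namespace St

theorem two : (2 : K) ≠ 0 := fun e => h.odd
  ((Nat.prime_dvd_prime_iff_eq hp.out Nat.prime_two).1 ((CharP.cast_eq_zero_iff K p 2).1 e))

theorem tau_mem (s : K) : tau s ∈ T := (h.mem _).2 ⟨s, rfl⟩

theorem tau_memA (s : K) : tau s ∈ A := h.syl.le (h.tau_mem s)

theorem sub {α : Perm (K × K × K)} (hα : α ∈ A) (u v : K × K × K) : α (u - v) = α u - α v :=
  map_sub (AddMonoidHom.mk' α (h.add α hα)) u v

theorem nsmul {α : Perm (K × K × K)} (hα : α ∈ A) (n : ℕ) (v : K × K × K) : α (n • v) = n • α v :=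
  map_nsmul (AddMonoidHom.mk' α (h.add α hα)) n v

theorem split {α : Perm (K × K × K)} (hα : α ∈ A) (a b c : K) :
    α (a, b, c) = α (a, 0, 0) + α (0, b, 0) + α (0, 0, c) := by
  rw [← h.add α hα, ← h.add α hα]; simp

theorem chain {g : Perm (K × K × K)} (hg : g ∈ A) (h₁ : Sc g 1) : g ∈ T := by
  let U : Subgroup (Perm (K × K × K)) :=
    { carrier := {g | Sc g 1}
      one_mem' := tau_zero (K := K) ▸ sc_tau 0
      mul_mem' := fun a b => by simpa using Sc.mul a b
      inv_mem' := fun {a} ha => ⟨ha.ne, inv_mem ha.fx, fun v => by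
        simpa using (ha.top (a⁻¹ v)).symm, fun v hv => by
        simpa using (ha.mid (a⁻¹ v) (by simpa [hv] using (ha.top (a⁻¹ v)).symm)).symm⟩ }
  refine (h.syl.eq_of_le (B := A ⊓ U) (fun g => ⟨1, Subtype.ext (Perm.ext fun v => ?_)⟩)
    (le_inf h.syl.le fun t ht => ?_) inf_le_left).le ⟨hg, h₁⟩
  · obtain ⟨g, hg, h₁⟩ := g
    have h₁ : Sc g 1 := h₁
    have e₁ : ∀ v, (g v - v).1 = 0 := fun v => by simp [h₁.top]
    have e₂ : ∀ v : K × K × K, v.1 = 0 → g v - v ∈ Zs := fun v hv => ⟨e₁ v, by simp [h₁.mid v hv]⟩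
    have e₃ : g (g (g v - v) - (g v - v)) = g (g v - v) - (g v - v) := by
      rw [eq_of_mem_Zs (e₂ _ (e₁ v)), h₁.fx _ trivial]
    have key : ∀ n : ℕ, (g ^ n) v =
        v + n • (g v - v) + n.choose 2 • (g (g v - v) - (g v - v)) := fun n => by
      induction n with
      | zero => simp
      | succ n ih =>
        rw [pow_succ', Perm.mul_apply, ih, h.add g hg, h.add g hg, h.nsmul hg, h.nsmul hg, e₃,
          Nat.choose_succ_succ' n 1, Nat.choose_one_right]
        module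
    obtain ⟨k, hk⟩ := hp.out.dvd_choose_self two_ne_zero (hp.out.two_le.lt_of_ne' h.odd)
    have z : ∀ w : K × K × K, p • w = 0 := fun w => by ext <;> simp
    show (g ^ p ^ 1) v = v
    rw [pow_one, key, hk, mul_comm, mul_smul, z, z]
    simp
  · obtain ⟨s, rfl⟩ := (h.mem t).1 ht
    exact sc_tau s

theorem pres {g : Perm (K × K × K)} (hg : g ∈ A) (hf : g ∈ Fx Set.univ) (b c : K) :
    (g (0, b, c)).1 = 0 := by
  by_contra hne
  obtain ⟨k, hk, hkf, e⟩ := h.neg g hg hf ⟨b, c, hne⟩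
  have e' : ∀ v, (k⁻¹ v).1 = -v.1 ∧ (k⁻¹ v).2.1 = -v.2.1 := fun v => by
    have := e (k⁻¹ v)
    simp only [Perm.coe_inv, apply_symm_apply] at this ⊢
    simp [this.1, this.2]
  obtain ⟨r, hr⟩ := (h.mem _).1 (h.chain (mul_mem (mul_mem hk (h.tau_memA 1)) (inv_mem hk))
    ⟨one_ne_zero, mul_mem (mul_mem hkf (tau_mem_Fx _ _)) (inv_mem hkf), fun v => by
      simp only [Perm.mul_apply, (e _).1, tau_apply, (e' _).1]; simp, fun v hv => by
      simp only [Perm.mul_apply, (e _).2, tau_apply, (e' _).1, (e' _).2, hv]; simp⟩)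
  replace hr := mul_inv_eq_iff_eq_mul.1 hr
  have h₁ := congrArg (fun g : Perm (K × K × K) => (g (1, 0, 0)).2.1) hr
  have h₂ := congrArg (fun g : Perm (K × K × K) => (g (0, 1, 0)).2.2) hr
  have h₃ : k (0, 1, 2) = k (0, 1, 0) + (0, 0, 2) := by
    rw [← hkf 2 trivial, ← h.add k hk]; simp
  simp only [Perm.mul_apply, (e _).1, (e _).2, tau_apply, mul_zero, add_zero, mul_one, zero_add, h₃,
    Prod.snd_add] at h₁ h₂
  exact mul_ne_zero h.two h.two (by linear_combination h₂ - 2 * h₁)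

theorem conj_mem {g : Perm (K × K × K)} (hg : g ∈ A) {s : K}
    (hZ : g * tau s * g⁻¹ ∈ stabilizer (Perm (K × K × K)) (Zs : Set (K × K × K))) :
    g * tau s * g⁻¹ ∈ T := by
  have M : ∀ m ∈ A, m ∈ Fx Set.univ → m ∈ normalizer (T : Set (Perm (K × K × K))) :=
    fun m hm hf => mem_normalizer_fintype fun t ht => by
      obtain ⟨s, rfl⟩ := (h.mem t).1 ht
      have e : ∀ v, m (tau s (m⁻¹ v)) = v + m (0, s * (m⁻¹ v).1, 2 * s * (m⁻¹ v).2.1 +
          s ^ 2 * (m⁻¹ v).1) := fun v => by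
        conv_rhs => rw [show v = m (m⁻¹ v) by simp, ← h.add m hm]
        congr 1
        ext <;> simp [add_assoc]
      refine h.chain (mul_mem (mul_mem hm (h.tau_memA s)) (inv_mem hm)) ⟨one_ne_zero,
        mul_mem (mul_mem hf (tau_mem_Fx _ _)) (inv_mem hf), fun v => ?_, fun v hv => ?_⟩
      · simp [-tau_apply, -Perm.coe_inv, e, h.pres hm hf]
      · have : (m⁻¹ v).1 = 0 := by
          rw [show v = (0, v.2.1, v.2.2) from Prod.ext hv rfl]
          exact h.pres (inv_mem hm) (inv_mem hf) _ _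
        simp [-tau_apply, -Perm.coe_inv, e, this, hf _ trivial]
  have P : ∀ g s, (g * tau s * g⁻¹ : Perm (K × K × K)) ^ p ^ 1 = 1 := fun g s => by
    have : ∀ n : ℕ, tau s ^ n = tau (n * s) := fun n => by
      induction n with
      | zero => simp [tau_zero]
      | succ n ih => rw [pow_succ, ih, tau_mul, Nat.cast_succ, add_one_mul]
    rw [conj_pow, this]
    simp [tau_zero]
  have H : ∀ k ∈ A, k ∈ stabilizer (Perm (K × K × K)) (Zs : Set (K × K × K)) →
      k ∈ normalizer (T : Set (Perm (K × K × K))) := fun k hk hkZ =>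
    mem_normalizer_fintype fun t ht => by
      obtain ⟨s, rfl⟩ := (h.mem t).1 ht
      have hA := mul_mem (mul_mem hk (h.tau_memA s)) (inv_mem hk)
      refine h.syl.le_of_le_normalizer (zpowers_le.2 hA) (isPGroup_zpowers_of_pow (P k s))
        (zpowers_le.2 (M _ hA fun c _ => ?_)) (mem_zpowers _)
      rw [Perm.mul_apply, Perm.mul_apply, eq_of_mem_Zs (mem_stab_iff.1 (inv_mem hkZ) c),
        tau_mem_Fx s .univ _ trivial, ← eq_of_mem_Zs (mem_stab_iff.1 (inv_mem hkZ) c)]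
      simp
  have hA := mul_mem (mul_mem hg (h.tau_memA s)) (inv_mem hg)
  exact h.syl.le_of_le_normalizer (zpowers_le.2 hA) (isPGroup_zpowers_of_pow (P g s))
    (zpowers_le.2 (H _ hA hZ)) (mem_zpowers _)

/-- The elements normalizing `Z` normalize `T`. -/
theorem exists_conj {g : Perm (K × K × K)} (hg : g ∈ A)
    (hZ : g ∈ stabilizer (Perm (K × K × K)) (Zs : Set (K × K × K))) (s : K) :
    ∃ r, ∀ v, g (tau s v) = tau r (g v) := by
  obtain ⟨r, hr⟩ := (h.mem _).1 (h.conj_mem hg (s := s)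
    (mul_mem (mul_mem hZ (Fx_le (tau_mem_Fx _ _))) (inv_mem hZ)))
  exact ⟨r, fun v => congrArg (fun k : Perm (K × K × K) => k v) (mul_inv_eq_iff_eq_mul.1 hr)⟩

theorem pres' {g : Perm (K × K × K)} (hg : g ∈ A)
    (hZ : g ∈ stabilizer (Perm (K × K × K)) (Zs : Set (K × K × K))) (b c : K) :
    (g (0, b, c)).1 = 0 := by
  obtain ⟨r, hr⟩ := h.exists_conj (inv_mem hg) (inv_mem hZ) 1
  have e := hr (g (0, b, c))
  rw [show g⁻¹ (g (0, b, c)) = (0, b, c) by simp, Perm.inv_eq_iff_eq, tau_mid,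
    h.add g hg] at e
  simpa [(mem_stab_iff.1 hZ _).2] using congrArg (fun v : K × K × K => v.2.1) e

/-- The bilinear relations. -/
theorem rel {g : Perm (K × K × K)} (hg : g ∈ A)
    (hZ : g ∈ stabilizer (Perm (K × K × K)) (Zs : Set (K × K × K))) (s : K) :
    ∃ r, (∀ a, (g (0, s * a, 0)).2.1 = r * (g (a, 0, 0)).1) ∧
      ∀ b, (g (0, 0, 2 * s * b)).2.2 = 2 * r * (g (0, b, 0)).2.1 := by
  obtain ⟨r, hr⟩ := h.exists_conj hg hZ s
  refine ⟨r, fun a => ?_, fun b => ?_⟩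
  · have := congrArg (fun v : K × K × K => v.2.1) (hr (a, 0, 0))
    rw [tau_apply, h.split hg] at this
    simpa [(mem_stab_iff.1 hZ _).2] using this
  · have := congrArg (fun v : K × K × K => v.2.2) (hr (0, b, 0))
    rw [tau_mid, h.add g hg] at this
    simpa [h.pres' hg hZ] using this

theorem exists_sc {g : Perm (K × K × K)} (hg : g ∈ A) (hf : g ∈ Fx Set.univ) : ∃ l, Sc g l := by
  obtain ⟨l, h₁, h₂⟩ := h.rel hg (Fx_le hf) 1
  simp only [hf _ trivial, one_mul, mul_one, mul_assoc, mul_right_inj' h.two] at h₁ h₂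
  have hl : l ≠ 0 := by rintro rfl; simpa using h₂ 1
  have mid : ∀ b, (g (0, b, 0)).2.1 = b / l := fun b => by
    rw [eq_div_iff hl, mul_comm, ← h₂]
  refine ⟨l, hl, hf, fun v => ?_, fun v hv => ?_⟩
  · rw [show v = (v.1, v.2.1, v.2.2) from rfl, h.split hg, hf _ trivial]
    have := h₁ v.1
    rw [mid] at this
    simp only [Prod.fst_add, h.pres hg hf, add_zero]
    field_simp at this ⊢
    exact this.symm
  · rw [show v = (0, v.2.1, 0) + (0, 0, v.2.2) by ext <;> simp [hv], h.add g hg, hf _ trivial]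
    simp [mid]

theorem exists_sc' {l : K} (hl : l ≠ 0) : ∃ g ∈ A, Sc g l := by
  obtain ⟨g, hg, hf, e⟩ := h.phi l hl
  obtain ⟨m, hm⟩ := h.exists_sc hg hf
  obtain rfl : l = m := by simpa using (e 1 0).symm.trans (hm.mid (0, 1, 0) rfl)
  exact ⟨g, hg, hm⟩

theorem dl_mem : dl ∈ A := by
  obtain ⟨g, hg, hs⟩ := h.exists_sc' (l := -1) (by simp)
  obtain ⟨k, hk⟩ : ∃ k, (g (1, 0, 0)).2.1 = k := ⟨_, rfl⟩
  have hm := mul_mem (h.tau_memA (-k)) hg
  have hs' : Sc (tau (-k) * g) (-1) := by simpa using (sc_tau (-k)).mul hs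
  have h1 : ((tau (-k) * g) (1, 0, 0)).2.1 = 0 := by simp [hs.top, hk]
  generalize tau (-k) * g = m at hm hs' h1
  obtain ⟨r, hr⟩ := (h.mem _).1 (h.chain (mul_mem hm hm) (by simpa using hs'.mul hs'))
  have top : ∀ v, (m v).1 = v.1 := fun v => by simpa using hs'.top v
  have mid : ∀ b c, (m (0, b, c)).2.1 = -b := fun b c => by
    simpa [div_neg] using hs'.mid (0, b, c) rfl
  have com : ∀ s v, m (tau s v) = tau (-s) (m v) := fun s v => by
    obtain ⟨r, hr⟩ := h.exists_conj hm (Fx_le hs'.fx) s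
    have := congrArg (fun v : K × K × K => v.2.1) (hr (1, 0, 0))
    rw [tau_apply, h.split hm] at this
    simp only [Prod.fst_add, Prod.snd_add, mid, tau_apply, top, h1] at this
    rw [hr, show r = -s by linear_combination -this]
  have e₂ : ∀ b, m (0, b, 0) = (0, -b, 0) := fun b => Prod.ext (top _) (Prod.ext (mid _ _) (by
    have := congrArg (fun v : K × K × K => v.2.2) (com b (1, 0, 0))
    rw [tau_apply, h.split hm, hs'.fx _ trivial] at this
    simpa [top, h1] using this))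
  have e₁ : ∀ a, (m (a, 0, 0)).2.1 = 0 := fun a => by
    have := congrArg (fun v : K × K × K => v.2.2) (com 1 (a, 0, 0))
    rw [tau_apply, h.split hm, hs'.fx _ trivial, e₂] at this
    simpa [top, h.two] using this
  have e₀ : ∀ a, m (a, 0, 0) = (a, 0, 0) := fun a => by
    have e : ∀ a, m (a, 0, 0) = (a, 0, 0) + (0, 0, (m (a, 0, 0)).2.2) := fun a => by
      ext <;> simp [top, e₁]
    have e' : ∀ a, tau r (a, 0, 0) = m (a, 0, 0) + (0, 0, (m (a, 0, 0)).2.2) := fun a => by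
      rw [← hr, Perm.mul_apply, ← hs'.fx (m (a, 0, 0)).2.2 trivial, ← h.add m hm, ← e]
    obtain rfl : r = 0 := by simpa [e₁] using congrArg (fun v : K × K × K => v.2.1) (e' 1)
    have := congrArg (fun v : K × K × K => v.2.2) (e' a)
    simp only [tau_apply, Prod.snd_add] at this
    rw [e, show (m (a, 0, 0)).2.2 = 0 from mul_left_cancel₀ h.two (by linear_combination -this)]
    simp
  rwa [show dl = m from Perm.ext fun v => by
    rw [show v = (v.1, v.2.1, v.2.2) from rfl, h.split hm, e₀, e₂, hs'.fx _ trivial]; simp]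

end St

end Cfsg.Agent.SP4.OA
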