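import Cfsg.Agent.Lib.SP4.OddA2

/-!
The cubic module: the counting argument.
-/

set_option autoImplicit false
set_option linter.unusedSectionVars false

namespace Cfsg.Agent.SP4

open Subgroup MulAction Equiv Cfsg.Agent.Fus
open scoped Pointwise

universe u v

namespace OA.St

variable {K : Type*} [Field K] [Fintype K] {p : ℕ} [hp : Fact p.Prime] [CharP K p]
  {A T : Subgroup (Perm (K × K × K))} (h : St p A T)
include h

theorem zero {α : Perm (K × K × K)} (hα : α ∈ A) : α 0 = 0 :=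
  map_zero (AddMonoidHom.mk' α (h.add α hα))

theorem gal [Algebra (ZMod p) K] {n : K} (hn : n ≠ 0) {Y : Type*} [Group Y] [Finite Y]
    (ψ : Y →* Perm (K × K × K)) (h₁ : ∀ y, ψ y ∈ A)
    (h₂ : ∀ y, ψ y ∈ stabilizer (Perm (K × K × K)) (Zs : Set (K × K × K)))
    (h₃ : ∀ y, ψ y (0, 0, n) = (0, 0, n)) :
    Nat.card Y ∣ Nat.card ((Fx .univ).comap ψ) * Module.finrank (ZMod p) K := by
  have hm : ∀ y a b, (ψ y (0, 0, a * b)).2.2 * (ψ y (0, 0, 1)).2.2 =
      (ψ y (0, 0, a)).2.2 * (ψ y (0, 0, b)).2.2 := fun y a b => by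
    obtain ⟨r, -, e⟩ := h.rel (h₁ y) (h₂ y) (a / 2)
    obtain ⟨r', -, e'⟩ := h.rel (h₁ y) (h₂ y) (1 / 2)
    simp only [mul_div_cancel₀ _ h.two, one_mul] at e e'
    have := e 1
    rw [mul_one] at this
    rw [e, e', e' b, this]
    ring
  have hz : ∀ y c, ψ y (0, 0, c) = (0, 0, (ψ y (0, 0, c)).2.2) := fun y c =>
    eq_of_mem_Zs (mem_stab_iff.1 (h₂ y) c)
  have h1 : ∀ y, (ψ y (0, 0, 1)).2.2 ≠ 0 := fun y e => by
    simpa using (ψ y).injective (((hz y 1).trans (by rw [e]; rfl)).trans (h.zero (h₁ y)).symm)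
  let σ : Y → K →+* K := fun y =>
    { toFun := fun c => (ψ y (0, 0, c * n)).2.2 / n
      map_one' := by simp [h₃, hn]
      map_zero' := by rw [zero_mul, show ((0, 0, 0) : K × K × K) = 0 from rfl, h.zero (h₁ y)]; simp
      map_add' := fun a b => by
        rw [← add_div, ← Prod.snd_add, ← Prod.snd_add, ← h.add _ (h₁ y)]; simp [add_mul]
      map_mul' := fun a b => by
        have e₁ := hm y (a * n) b
        have e₂ := hm y b n
        rw [h₃] at e₂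
        rw [show a * b * n = a * n * b by ring, div_mul_div_comm,
          div_eq_div_iff hn (mul_ne_zero hn hn)]
        refine mul_right_cancel₀ (h1 y) ?_
        linear_combination n * n * e₁ - n * (ψ y (0, 0, a * n)).2.2 * e₂ }
  let σ' : Y →* K →ₐ[ZMod p] K :=
    { toFun := fun y => ⟨σ y, fun r => RingHom.congr_fun
        (RingHom.ext_zmod ((σ y).comp (algebraMap _ _)) (algebraMap _ _)) r⟩
      map_one' := AlgHom.ext fun c => by simp [σ, hn]
      map_mul' := fun x y => AlgHom.ext fun c => by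
        show (ψ (x * y) (0, 0, c * n)).2.2 / n =
          (ψ x (0, 0, (ψ y (0, 0, c * n)).2.2 / n * n)).2.2 / n
        rw [div_mul_cancel₀ _ hn, ← hz, map_mul, Perm.mul_apply] }
  let θ := (Algebra.IsAlgebraic.algEquivEquivAlgHom (ZMod p) K).symm.toMonoidHom.comp σ'
  rw [← θ.ker.card_mul_index, index_ker, ← IsGalois.card_aut_eq_finrank]
  refine Nat.mul_dvd_mul (card_dvd_of_le fun y hy c _ => ?_) (card_subgroup_dvd_card _)
  have : σ' y = 1 :=
    (Algebra.IsAlgebraic.algEquivEquivAlgHom (ZMod p) K).symm.map_eq_one_iff.1 hy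
  have : (ψ y (0, 0, c / n * n)).2.2 / n = c / n := AlgHom.congr_fun this (c / n)
  rw [div_mul_cancel₀ _ hn, div_left_inj' hn] at this
  rw [hz, this]

theorem mem_stab_of_conj {g : Perm (K × K × K)} (hg : g ∈ A)
    (hZ : g * tau 1 * g⁻¹ ∈ stabilizer (Perm (K × K × K)) (Zs : Set (K × K × K))) :
    g ∈ stabilizer (Perm (K × K × K)) (Zs : Set (K × K × K)) := by
  obtain ⟨r, hr⟩ := (h.mem _).1 (h.conj_mem hg hZ)
  have hr0 : r ≠ 0 := by
    rintro rfl
    rw [tau_zero, conj_eq_one_iff, ← tau_zero] at hr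
    exact one_ne_zero (tau_inj hr)
  refine mem_stab_iff.2 fun c => ?_
  have := congrArg (fun k : Perm (K × K × K) => k (g (0, 0, c))) hr
  simp only [Perm.mul_apply, Perm.coe_inv, symm_apply_apply, tau_mem_Fx 1 .univ c trivial] at this
  have e₁ : (g (0, 0, c)).1 = 0 := by simpa [hr0] using congrArg (fun v => v.2.1) this
  exact ⟨e₁, by simpa [e₁, hr0, h.two] using congrArg (fun v => v.2.2) this⟩

theorem card_dvd_two {Y : Type*} [Group Y] [Finite Y] (ψ : Y →* Perm (K × K × K))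
    (hψ : Function.Injective ψ) (h₁ : ∀ y, ψ y ∈ A) (h₂ : ∀ y, ψ y ∈ Fx .univ) {u : K × K × K}
    (hu : u ∉ Zs) (h₃ : ∀ y, ψ y u = u) : Nat.card Y ∣ 2 := by
  classical
  have one : ∀ y, Sc (ψ y) 1 → y = 1 := fun y hy => by
    obtain ⟨s, hs⟩ := (h.mem _).1 (h.chain (h₁ y) hy)
    have := h₃ y
    rw [hs] at this
    have e₁ : s * u.1 = 0 := by simpa using congrArg (fun v => v.2.1) this
    have e₂ : 2 * s * u.2.1 + s ^ 2 * u.1 = 0 := by
      simpa [add_assoc] using congrArg (fun v => v.2.2) this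
    obtain rfl : s = 0 := by_contra fun hs => hu (by
      have : u.1 = 0 := by simpa [hs] using e₁
      exact ⟨this, by simpa [this, hs, h.two] using e₂⟩)
    exact hψ (hs.trans (tau_zero.trans (map_one ψ).symm))
  have neg : ∀ y ≠ 1, Sc (ψ y) (-1) := fun y hy => by
    obtain ⟨l, hl⟩ := h.exists_sc (h₁ y) (h₂ y)
    have hl1 : l ≠ 1 := fun e => hy (one y (e ▸ hl))
    have e₁ := hl.top u
    have e₂ := hl.mid u
    rw [h₃] at e₁ e₂
    have := hl.ne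
    by_cases hu1 : u.1 = 0
    · refine absurd ⟨hu1, by_contra fun hu2 => hl1 ?_⟩ hu
      replace e₂ := e₂ hu1
      field_simp at e₂
      exact e₂
    · field_simp at e₁
      rwa [← (sq_eq_one_iff.1 e₁).resolve_left hl1]
  have : Nat.card Y ≤ 2 := (Nat.card_le_card_of_injective (fun y : Y => decide (y = 1))
    fun x y e => by
      have e' := decide_eq_decide.1 e
      by_cases hx : x = 1
      · rw [hx, e'.1 hx]
      · have hy := mt e'.2 hx
        have a := one (x * y) (by simpa using (neg x hx).mul (neg y hy))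
        have b := one (y * y) (by simpa using (neg y hy).mul (neg y hy))
        exact mul_right_cancel (a.trans b.symm)).trans (by simp)
  have := Nat.card_pos (α := Y)
  interval_cases Nat.card Y <;> simp

theorem exists_comm {g : Perm (K × K × K)} (hg : g ∈ A) (hf : g⁻¹ * dl * g ∈ Fx .univ) :
    ∃ s, g * tau s ∈ centralizer {dl} := by
  have hk := mul_mem (mul_mem (inv_mem hg) h.dl_mem) hg
  obtain ⟨l, hl⟩ := h.exists_sc hk hf
  have sq : (g⁻¹ * dl * g) * (g⁻¹ * dl * g) = 1 := by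
    rw [show g⁻¹ * dl * g * (g⁻¹ * dl * g) = g⁻¹ * (dl * dl) * g by group, dl_dl]; simp
  rcases mul_self_eq_one_iff.1 ((sq ▸ hl.mul hl).unique (tau_zero (K := K) ▸ sc_tau 0)) with
    rfl | rfl
  · obtain ⟨s, hs⟩ := (h.mem _).1 (h.chain hk hl)
    rw [hs, tau_mul, ← tau_zero, ← two_mul] at sq
    obtain rfl : s = 0 := by simpa [h.two] using tau_inj sq
    have : dl = (1 : Perm (K × K × K)) := by simpa [tau_zero, mul_assoc, inv_mul_eq_one] using hs
    have : (-1 : K) = 1 := congrArg (fun k : Perm (K × K × K) => (k (0, 1, 0)).2.1) this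
    exact absurd (by linear_combination -this) h.two
  · obtain ⟨s, hs⟩ := (h.mem _).1 (h.chain (mul_mem hk h.dl_mem) (by simpa using hl.mul sc_dl))
    refine ⟨s / 2, mem_centralizer_singleton_iff.2 ?_⟩
    have e : dl * g = g * tau s * dl := by
      rw [← hs, mul_assoc, mul_assoc, dl_dl]; group
    rw [← mul_assoc, e, mul_assoc _ dl, dl_tau, mul_assoc g (tau s), ← mul_assoc (tau s), tau_mul,
      mul_assoc g]
    congr 3
    linear_combination (div_mul_cancel₀ s h.two)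

theorem card_split {X : Subgroup (Perm (K × K × K))} (h₁ : T ≤ X) (h₂ : X ≤ A)
    (h₃ : X ≤ stabilizer (Perm (K × K × K)) (Zs : Set (K × K × K))) :
    Nat.card X = Nat.card (X ⊓ centralizer {dl} : Subgroup _) * Nat.card K := by
  rw [← Nat.card_prod]
  refine (Nat.card_congr (Equiv.ofBijective (fun x : (X ⊓ centralizer {dl} : Subgroup _) × K =>
    (⟨x.1 * tau x.2, mul_mem x.1.2.1 (h₁ (h.tau_mem _))⟩ : X)) ⟨fun x y e => ?_, fun g => ?_⟩)).symm
  · replace e : (x.1 : Perm (K × K × K)) * tau x.2 = y.1 * tau y.2 := congrArg Subtype.val e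
    have e' : tau (x.2 - y.2) ∈ centralizer {dl} := by
      rw [show tau (x.2 - y.2) = (x.1 : Perm (K × K × K))⁻¹ * y.1 by
        rw [sub_eq_add_neg, ← tau_mul, ← tau_inv, eq_inv_mul_iff_mul_eq, ← mul_assoc, e]; simp]
      exact mul_mem (inv_mem x.1.2.2) y.1.2.2
    have := tau_inj (mul_right_cancel ((mem_centralizer_singleton_iff.1 e').trans (dl_tau _)))
    have e₂ : x.2 = y.2 := mul_left_cancel₀ h.two (by linear_combination this)
    exact Prod.ext (Subtype.ext (mul_right_cancel (e₂ ▸ e))) e₂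
  · obtain ⟨s, hs⟩ := h.exists_comm (h₂ g.2) fun c _ => by
      rw [Perm.mul_apply, Perm.mul_apply, Perm.inv_eq_iff_eq,
        eq_of_mem_Zs (mem_stab_iff.1 (h₃ g.2) c)]
      simp
    exact ⟨(⟨_, mul_mem g.2 (h₁ (h.tau_mem s)), hs⟩, -s), Subtype.ext (by
      simp [mul_assoc, tau_mul, tau_zero])⟩

theorem ncard_orbit {X : Subgroup (Perm (K × K × K))} (h₁ : X ≤ A ⊓ centralizer {dl})
    (h₂ : A ⊓ Fx .univ ⊓ centralizer {dl} ≤ X) :
    (orbit X ((0, 1, 0) : K × K × K)).ncard + 1 = Nat.card K := by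
  have key : ∀ g ∈ X, g (0, 1, 0) = (0, (g (0, 1, 0)).2.1, 0) := fun g hg => by
    have e := congrArg (fun k : Perm (K × K × K) => k (0, 1, 0))
      (mem_centralizer_singleton_iff.1 (h₁ hg).2)
    simp only [Perm.mul_apply] at e
    rw [show dl ((0, 1, 0) : K × K × K) = 0 - (0, 1, 0) by simp, h.sub (h₁ hg).1,
      h.zero (h₁ hg).1] at e
    have e₁ : 0 - (g (0, 1, 0)).1 = (g (0, 1, 0)).1 := congrArg Prod.fst e
    have e₂ : 0 - (g (0, 1, 0)).2.2 = (g (0, 1, 0)).2.2 := congrArg (fun v => v.2.2) e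
    exact Prod.ext (mul_left_cancel₀ h.two (by linear_combination -e₁))
      (Prod.ext rfl (mul_left_cancel₀ h.two (by linear_combination -e₂)))
  rw [show orbit X ((0, 1, 0) : K × K × K) = (fun b => (0, b, 0)) '' {0}ᶜ from ?_,
    Set.ncard_image_of_injective _ fun a b e => by simpa using e, ← Set.ncard_singleton (0 : K),
    add_comm, Set.ncard_add_ncard_compl]
  ext w
  constructor
  · rintro ⟨g, rfl⟩
    refine ⟨_, fun e => ?_, (key g g.2).symm⟩
    have := key g g.2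
    rw [e] at this
    simpa using g.1.injective (this.trans (h.zero (h₁ g.2).1).symm)
  · rintro ⟨b, hb, rfl⟩
    obtain ⟨g, hg, hs⟩ := h.exists_sc' (inv_ne_zero hb)
    obtain ⟨s, e⟩ := h.exists_comm hg (mul_mem (mul_mem (inv_mem hs.fx) sc_dl.fx) hs.fx)
    have hm := h₂ ⟨⟨mul_mem hg (h.tau_memA s), (hs.mul (sc_tau s)).fx⟩, e⟩
    exact ⟨⟨_, hm⟩, (key _ hm).trans (by rw [(hs.mul (sc_tau s)).mid _ rfl]; simp)⟩

theorem mem_Zs {n : K} (hn : n ≠ 0) {g : Perm (K × K × K)} (hg : g ∈ A)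
    (hf : g (0, 0, n) = (0, 0, n)) {c : K} (h₁ : (g (0, 0, c)).1 = 0) : g (0, 0, c) ∈ Zs := by
  refine ⟨h₁, by_contra fun hb => ?_⟩
  have hf' : g⁻¹ (0, 0, n) = (0, 0, n) := Perm.inv_eq_iff_eq.2 hf.symm
  refine orb_gen (sylow_conj h.syl hg) (h.tau_memA (n / (2 * (g (0, 0, c)).2.1)))
    (w := g (0, 0, c)) ?_ (Equiv.addRight (0, 0, n)) (k := 1) ?_ (fun x e => hn ?_) ?_
    (fun x => by ext <;> simp; ring) ?_
  · rintro _ ⟨t, ht, rfl⟩
    obtain ⟨s, rfl⟩ := (h.mem t).1 ht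
    simp [-tau_apply, tau_mem_Fx s .univ c trivial]
  · rw [Equiv.nsmul_addRight, show p ^ 1 • ((0, 0, n) : K × K × K) = 0 by ext <;> simp,
      Equiv.addRight_zero]
  · simpa using congrArg (fun v => v.2.2) e
  · rintro _ ⟨t, ht, rfl⟩ x
    obtain ⟨s, rfl⟩ := (h.mem t).1 ht
    show g (tau s (g⁻¹ x)) + (0, 0, n) = g (tau s (g⁻¹ (x + (0, 0, n))))
    rw [h.add _ (inv_mem hg), h.add _ (h.tau_memA s), h.add g hg, hf',
      tau_mem_Fx s .univ n trivial, hf]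
  · have := h.two
    ext <;> simp [h₁]
    field_simp

theorem main {n : K} (hn : n ≠ 0) (hN : ∀ α ∈ A, α (0, 0, n) ∈ Zs) :
    A ≤ stabilizer (Perm (K × K × K)) (Zs : Set (K × K × K)) := by
  classical
  by_contra hA
  obtain ⟨B, hB, hG, hmax⟩ := Finite.exists_le_maximal (a := ({n} : Set K)) (p := fun B =>
      ¬ A ⊓ Fx B ≤ stabilizer (Perm (K × K × K)) (Zs : Set (K × K × K))) fun H =>
    hA fun g hg => h.mem_stab_of_conj hg (H ⟨A.mul_mem (mul_mem hg (h.tau_memA 1)) (inv_mem hg),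
      fun c hc => by
        rw [hc, Perm.mul_apply, Perm.mul_apply, eq_of_mem_Zs (hN _ (inv_mem hg)),
          tau_mem_Fx 1 .univ _ trivial, ← eq_of_mem_Zs (hN _ (inv_mem hg))]
        simp⟩)
  have hFB : Fx .univ ≤ Fx B := fun g hg c _ => hg c trivial
  obtain ⟨G, hGe⟩ : ∃ G, G = A ⊓ Fx B := ⟨_, rfl⟩
  rw [← hGe] at hG
  have GA : G ≤ A := hGe ▸ inf_le_left
  have Gn : ∀ g ∈ G, g (0, 0, n) = (0, 0, n) := fun g hg => (hGe.le hg).2 n (hB rfl)
  have MG : A ⊓ Fx .univ ≤ G := hGe ▸ inf_le_inf_left A hFB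
  have TM : T ≤ A ⊓ Fx .univ := le_inf h.syl.le fun t ht => by
    obtain ⟨s, rfl⟩ := (h.mem t).1 ht
    exact tau_mem_Fx s _
  have tG : ∀ s, tau s ∈ G := fun s => MG (TM (h.tau_mem s))
  have tZ : ∀ s : K, tau s • (Zs : Set (K × K × K)) = Zs := fun s => Fx_le (tau_mem_Fx s _)
  have out : ∀ g ∈ G, g • (Zs : Set (K × K × K)) ≠ Zs → ∃ c, (g (0, 0, c)).1 ≠ 0 := fun g hg hZ => by
    by_contra! H
    exact hZ (mem_stab_iff.2 fun c => h.mem_Zs hn (GA hg) (Gn g hg) (H c))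
  have F6 : ∀ g ∈ G, g • (Zs : Set (K × K × K)) ≠ Zs →
      ∃ s : K, ∃ c ∈ G ⊓ centralizer {dl},
        g • (Zs : Set (K × K × K)) = tau s • c • (Zs : Set (K × K × K)) := by
    intro g hg hZ
    obtain ⟨c, hc⟩ := out g hg hZ
    obtain ⟨s, k, hk, hs, rfl⟩ : ∃ s, ∃ k ∈ G, (k (0, 0, c)).2.1 = 0 ∧ g = tau s * k :=
      ⟨(g (0, 0, c)).2.1 / (g (0, 0, c)).1, _, mul_mem (inv_mem (tG _)) hg, by
        simp [tau_inv, hc], (mul_inv_cancel_left _ _).symm⟩
    have hd := mul_mem (mul_mem (inv_mem hk) (MG ⟨h.dl_mem, sc_dl.fx⟩)) hk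
    have fix : ∀ c, (k (0, 0, c)).2.1 = 0 → k⁻¹ (dl (k (0, 0, c))) = (0, 0, c) := fun c hc => by
      rw [Perm.inv_eq_iff_eq]
      exact Prod.ext rfl (Prod.ext (by rw [hc]; exact (congrArg Neg.neg hc).trans neg_zero) rfl)
    have hS : k⁻¹ * dl * k ∈ stabilizer (Perm (K × K × K)) (Zs : Set (K × K × K)) := by
      by_contra H
      refine hc (congrArg Prod.fst ((hGe.le hg).2 c (hmax (y := insert c B) (fun H' => H (H'
        ⟨GA hd, ?_⟩)) (Set.subset_insert _ _) (Set.mem_insert _ _))))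
      rintro x (rfl | hx)
      exacts [fix _ hs, (hGe.le hd).2 x hx]
    obtain ⟨r, hr⟩ := h.exists_comm (GA hk) fun x _ => fix x (by
      obtain ⟨y, e⟩ : ∃ y, dl (k (0, 0, x)) = k (0, 0, y) :=
        ⟨_, Perm.inv_eq_iff_eq.1 (eq_of_mem_Zs (mem_stab_iff.1 hS x))⟩
      have e' : k (0, 0, y - x) = dl (k (0, 0, x)) - k (0, 0, x) := by
        rw [e, ← h.sub (GA hk)]; simp
      have := (h.mem_Zs hn (GA hk) (Gn _ hk) (c := y - x) (by rw [e']; exact sub_self _)).2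
      rw [e', Prod.snd_sub, Prod.fst_sub, dl_apply] at this
      exact mul_left_cancel₀ h.two (by linear_combination -this))
    exact ⟨s, _, ⟨G.mul_mem hk (tG r), hr⟩, by rw [mul_smul, mul_smul, tZ]⟩
  obtain ⟨C, hCe⟩ : ∃ C, C = G ⊓ centralizer {dl} := ⟨_, rfl⟩
  rw [← hCe] at F6
  have CG : C ≤ G := hCe ▸ inf_le_left
  obtain ⟨R, hR⟩ : ∃ R, R = orbit C (Zs : Set (K × K × K)) \ {Zs} := ⟨_, rfl⟩
  have c₁ : (orbit C (Zs : Set (K × K × K))).ncard = 1 + R.ncard := by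
    rw [hR, add_comm, Set.ncard_diff_singleton_add_one (mem_orbit_self _)]
  have c₂ : (orbit G (Zs : Set (K × K × K))).ncard = 1 + Nat.card K * R.ncard := by
    rw [← Set.ncard_diff_singleton_add_one (mem_orbit_self (Zs : Set (K × K × K))), add_comm,
      ← Set.ncard_univ, ← Set.ncard_prod, add_right_inj]
    refine (Set.ncard_congr (fun x _ => tau x.1 • x.2) ?_ ?_ ?_).symm
    · rintro ⟨s, Y⟩ ⟨-, hY⟩
      obtain ⟨⟨c, rfl⟩, hc⟩ := hR.le hY
      exact ⟨⟨⟨_, tG s⟩ * ⟨_, CG c.2⟩, mul_smul _ _ _⟩, fun e =>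
        hc (smul_left_cancel (tau s) (e.trans (tZ s).symm))⟩
    · rintro ⟨s, Y⟩ ⟨s', Y'⟩ ⟨-, hY⟩ ⟨-, hY'⟩ e
      obtain ⟨⟨c, rfl⟩, hc⟩ := hR.le hY
      obtain ⟨⟨c', rfl⟩, -⟩ := hR.le hY'
      have z : ∀ c : C, ∀ x, (c.1 (0, 0, x)).2.1 = 0 := fun c x => by
        have := congrArg (fun k : Perm (K × K × K) => (k (0, 0, x)).2.1)
          (mem_centralizer_singleton_iff.1 (hCe.le c.2).2)
        simp only [Perm.mul_apply, dl_apply, neg_zero] at this
        exact mul_left_cancel₀ h.two (by linear_combination this)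
      obtain ⟨x, hx⟩ := out c (CG c.2) hc
      obtain ⟨_, ⟨w, hw, rfl⟩, e'⟩ := e.le ⟨_, ⟨(0, 0, x), ⟨rfl, rfl⟩, rfl⟩, rfl⟩
      rw [eq_of_mem_Zs hw] at e'
      replace e' : tau s' (c'.1 (0, 0, w.2.2)) = tau s (c.1 (0, 0, x)) := e'
      have e₁ : (c'.1 (0, 0, w.2.2)).1 = (c.1 (0, 0, x)).1 :=
        (congrArg Prod.fst e' :)
      have e₂ : (c'.1 (0, 0, w.2.2)).2.1 + s' * (c'.1 (0, 0, w.2.2)).1 =
        (c.1 (0, 0, x)).2.1 + s * (c.1 (0, 0, x)).1 := congrArg (fun v => v.2.1) e'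
      rw [z, z, e₁, add_right_inj, mul_left_inj' hx] at e₂
      subst e₂
      exact Prod.ext rfl (smul_left_cancel _ e)
    · rintro _ ⟨⟨g, rfl⟩, hg⟩
      obtain ⟨s, c, hc, e⟩ := F6 g g.2 hg
      exact ⟨(s, c • Zs), ⟨trivial, hR.ge ⟨⟨⟨c, hc⟩, rfl⟩, fun e' =>
        hg (e.trans (by rw [show c • (Zs : Set (K × K × K)) = Zs from e', tZ]))⟩⟩, e.symm⟩
  have r₁ : 1 ≤ R.ncard := by
    obtain ⟨g, hg, hZ⟩ := SetLike.not_le_iff_exists.1 hG
    obtain ⟨s, c, hc, e⟩ := F6 g hg hZ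
    exact (Set.ncard_pos (Set.toFinite _)).2 ⟨c • Zs, hR.ge ⟨⟨⟨c, hc⟩, rfl⟩, fun e' =>
      hZ (e.trans (by rw [show c • (Zs : Set (K × K × K)) = Zs from e', tZ]))⟩⟩
  letI := ZMod.algebra K p
  have hq : p ^ Module.finrank (ZMod p) K = Nat.card K := FiniteField.pow_finrank_eq_natCard p K
  have LC : A ⊓ Fx .univ ⊓ centralizer {dl} ≤ C := hCe ▸ inf_le_inf_right _ MG
  have o₁ := h.ncard_orbit (X := C) (hCe ▸ inf_le_inf_right _ GA) LC
  have o₂ := h.ncard_orbit (X := A ⊓ Fx .univ ⊓ centralizer {dl})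
    (inf_le_inf_right _ inf_le_left) le_rfl
  have dL : Nat.card K - 1 ∣ Nat.card (A ⊓ Fx .univ ⊓ centralizer {dl} : Subgroup _) := by
    rw [os _ ((0, 1, 0) : K × K × K), ← o₂]; simp
  refine arith (r := R.ncard) hp.out h.odd (n := Module.finrank (ZMod p) K) ?_ r₁ ?_ ?_
  · refine lt_of_le_of_ne (Nat.succ_le_of_lt Module.finrank_pos) fun e => hG fun g hg => Fx_le fun c _ => ?_
    obtain ⟨k, rfl⟩ := (finrank_eq_one_iff_of_nonzero' n hn).1 e.symm c
    have := h.nsmul (GA hg) k.val (0, 0, n)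
    rw [Gn g hg] at this
    simpa [← Nat.cast_smul_eq_nsmul (ZMod p)] using this
  · have d₁ := OA.div (A ⊓ Fx .univ) 2 (orbit G ((0, 1, 0) : K × K × K))
      (fun g hg x hx => mapsTo_smul_orbit (⟨g, MG hg⟩ : G) _ hx) fun x hx =>
        h.card_dvd_two (Subgroup.subtype _) (subtype_injective _) (fun y => y.2.1.1) (fun y => y.2.1.2)
          (u := x) (fun hZ => by
            obtain ⟨g, rfl⟩ := hx
            have e : g.1⁻¹ (0, 0, (g.1 (0, 1, 0)).2.2) = (0, 1, 0) :=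
              Perm.inv_eq_iff_eq.2 (eq_of_mem_Zs hZ).symm
            simpa [e] using (h.mem_Zs hn (GA (inv_mem g.2)) (Gn _ (inv_mem g.2))
              (c := (g.1 (0, 1, 0)).2.2) (by rw [e])).2) fun y => y.2.2
    have d₂ := Nat.mul_dvd_mul d₁ (card_dvd_of_le (inf_le_inf_right
      (stabilizer (Perm (K × K × K)) ((0, 1, 0) : K × K × K)) CG))
    have hC := (os C ((0, 1, 0) : K × K × K)).symm.trans (os C (Zs : Set (K × K × K)))
    rw [mul_assoc, ← os, os G (Zs : Set (K × K × K)), h.card_split TM inf_le_left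
      (inf_le_right.trans Fx_le), h.card_split (le_inf (TM.trans MG)
      (TM.trans (inf_le_right.trans Fx_le))) (inf_le_left.trans GA) inf_le_right,
      inf_right_comm G, ← hCe, c₂, mul_right_comm, ← mul_assoc, ← mul_assoc,
      Nat.mul_dvd_mul_iff_right Nat.card_pos] at d₂
    rw [hq]
    refine Nat.dvd_of_mul_dvd_mul_right Nat.card_pos (Dvd.dvd.trans ?_ d₂)
    rw [← c₁, ← hC, Nat.eq_sub_of_add_eq o₁]
    exact Nat.mul_dvd_mul_right dL _
  · rw [hq]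
    refine dL.trans (OA.div _ _ R (fun g hg x hx => hR.ge ⟨mapsTo_smul_orbit (⟨g, LC hg⟩ : C) _
      (hR.le hx).1, fun e => (hR.le hx).2 (smul_left_cancel g (e.trans (Fx_le hg.1.2).symm))⟩)
      fun x hx => ?_)
    obtain ⟨⟨c, rfl⟩, hc⟩ := hR.le hx
    obtain ⟨x, hx⟩ := out c (CG c.2) hc
    have m : ∀ y : (A ⊓ Fx .univ ⊓ centralizer {dl} ⊓ stabilizer (Perm (K × K × K))
        (c • (Zs : Set (K × K × K))) : Subgroup _), c.1⁻¹ * y * c.1⁻¹⁻¹ ∈ G := fun y =>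
      mul_mem (mul_mem (inv_mem (CG c.2)) (MG y.2.1.1)) (inv_mem (inv_mem (CG c.2)))
    refine (h.gal hn ((MulAut.conj c.1⁻¹).toMonoidHom.comp (Subgroup.subtype _)) (fun y => GA (m y))
      (fun y => ?_) fun y => Gn _ (m y)).trans (Nat.mul_dvd_mul_right ?_ _)
    · show (c.1⁻¹ * y * c.1⁻¹⁻¹) • (Zs : Set (K × K × K)) = Zs
      rw [inv_inv, mul_smul, mul_smul, inv_smul_eq_iff]
      exact y.2.2
    · refine h.card_dvd_two ((Subgroup.subtype _).comp (Subgroup.subtype _))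
        ((subtype_injective _).comp (subtype_injective _)) (fun y => y.1.2.1.1.1)
        (fun y => y.1.2.1.1.2) (u := c.1 (0, 0, x)) (fun e => hx e.1) fun y => ?_
      have : (c.1⁻¹ * y.1.1 * c.1⁻¹⁻¹ : Perm (K × K × K)) (0, 0, x) = (0, 0, x) := y.2 x trivial
      rwa [inv_inv, Perm.mul_apply, Perm.mul_apply, Perm.inv_eq_iff_eq] at this

end OA.St

open OA in
theorem oddA : OddAStmt.{u, v} := by
  intro G _ _ p _ hp2 K _ _ _ A T hT a b c ha hb hc inj sur hT₁ hT₂ hφ N hN hNZ hNA α hα x hx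
  let e : G ≃ K × K × K := Equiv.ofBijective (fun x => (a x, b x, c x))
    ⟨fun x y h => inj x y (congrArg Prod.fst h) (congrArg (fun v => v.2.1) h)
      (congrArg (fun v => v.2.2) h), fun v => by
      obtain ⟨x, h₁, h₂, h₃⟩ := sur v.1 v.2.1 v.2.2
      exact ⟨x, Prod.ext h₁ (Prod.ext h₂ h₃)⟩⟩
  let ρ : MulAut G →* Perm (K × K × K) := e.permCongrHom.toMonoidHom.comp (MulAut.toPerm G)
  have hρ : ∀ α x, ρ α (e x) = e (α x) := fun α x => congrArg (fun y => e (α y)) (e.left_inv x)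
  have em : ∀ x y, e (x * y) = e x + e y := fun x y => Prod.ext (ha x y) (Prod.ext (hb x y) (hc x y))
  have ex : ∀ x, e x = (a x, b x, c x) := fun _ => rfl
  have eZ : ∀ x, a x = 0 → b x = 0 → e x = (0, 0, c x) := fun x h₁ h₂ => by rw [ex, h₁, h₂]
  have fx : ∀ α, ρ α ∈ Fx .univ ↔ ∀ x, a x = 0 → b x = 0 → α x = x := fun α =>
    ⟨fun H x h₁ h₂ => e.injective (by rw [← hρ, eZ x h₁ h₂, H _ trivial]), fun H s _ => by
      obtain ⟨x, h₁, h₂, rfl⟩ := sur 0 0 s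
      rw [← eZ x h₁ h₂, hρ, H x h₁ h₂]⟩
  have ht : ∀ t s, (∀ x, a (t x) = a x ∧ b (t x) = b x + s * a x ∧
      c (t x) = c x + 2 * s * b x + s ^ 2 * a x) → ρ t = tau s := fun t s H => Perm.ext fun v => by
    obtain ⟨x, rfl⟩ := e.surjective v
    rw [hρ, ex, (H x).1, (H x).2.1, (H x).2.2]; rfl
  have h : St p (A.map ρ) (T.map ρ) := ⟨hp2, hT.map ρ, ?_, fun t => ⟨?_, ?_⟩, fun l hl => ?_, ?_⟩
  · obtain ⟨⟨n, hn⟩, hn1⟩ := ne_bot_iff_exists_ne_one.1 hN
    have hZ := h.main (n := c n) (fun h₀ => hn1 (Subtype.ext (e.injective (by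
        have : e 1 = 0 := by simpa using em 1 1
        rw [OneMemClass.coe_one, this, eZ n (hNZ n hn).1 (hNZ n hn).2, h₀]; rfl)))) (by
      rintro _ ⟨β, hβ, rfl⟩
      rw [← eZ n (hNZ n hn).1 (hNZ n hn).2, hρ]
      exact hNZ _ (hNA β hβ n hn)) ⟨α, hα, rfl⟩
    refine ⟨?_, fun hx' => ?_⟩
    · have := h.pres' ⟨α, hα, rfl⟩ hZ (b x) (c x)
      rwa [← hx, ← ex, hρ, hx] at this
    · have := mem_stab_iff.1 hZ (c x)
      rw [← eZ x hx hx', hρ] at this
      exact this.2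
  · rintro _ ⟨β, -, rfl⟩ u v
    obtain ⟨x, rfl⟩ := e.surjective u
    obtain ⟨y, rfl⟩ := e.surjective v
    rw [← em, hρ, hρ, hρ, map_mul, em]
  · rintro ⟨t, h, rfl⟩
    exact (hT₁ t h).imp (ht t)
  · rintro ⟨s, rfl⟩
    obtain ⟨t, h, H⟩ := hT₂ s
    exact ⟨t, h, ht t s H⟩
  · obtain ⟨φ, h₁, h₂, h₃⟩ := hφ l hl
    refine ⟨_, ⟨φ, h₁, rfl⟩, (fx φ).2 h₂, fun r s => ?_⟩
    obtain ⟨y, h₄, rfl, rfl⟩ := sur 0 r s
    rw [← h₄, ← ex, hρ]
    exact h₃ y h₄
  · rintro _ ⟨γ, hγ, rfl⟩ hf ⟨r, s, hne⟩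
    obtain ⟨y, h₄, rfl, rfl⟩ := sur 0 r s
    rw [← h₄, ← ex, hρ, h₄] at hne
    have TA : T ≤ A ⊓ (Fx .univ).comap ρ := le_inf hT.le fun t h => by
      obtain ⟨s, H⟩ := hT₁ t h
      exact mem_comap.2 (ht t s H ▸ tau_mem_Fx s _)
    have hγ' : γ ∈ A ⊓ (Fx .univ).comap ρ := ⟨hγ, hf⟩
    obtain ⟨φ, -, -, -, H⟩ := sl2 (hT.of_le TA inf_le_left) a b ha hb
      (fun r s => (sur r s 0).imp fun x h => ⟨h.1, h.2.1⟩)
      (fun β hβ x h₁ h₂ => by rw [(fx β).1 hβ.2 x h₁ h₂]; exact ⟨h₁, h₂⟩)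
      (fun t h => (hT₁ t h).imp fun s H x => ⟨(H x).1, (H x).2.1⟩)
      (fun s => (hT₂ s).imp fun t H => ⟨H.1, fun x => ⟨(H.2 x).1, (H.2 x).2.1⟩⟩) hγ' ⟨y, h₄, hne⟩
      TA fun t h => mul_mem (mul_mem hγ' (TA h)) (inv_mem hγ')
    obtain ⟨k, hk, H⟩ := H (-1) (by simp)
    refine ⟨_, ⟨k, hk.1, rfl⟩, hk.2, fun v => ?_⟩
    obtain ⟨x, rfl⟩ := e.surjective v
    obtain ⟨h₁, h₂⟩ := H x
    rw [div_neg, div_one] at h₁
    rw [h₁, map_neg] at h₂
    rw [hρ]
    exact ⟨h₁, show b (k x) = -b x by linear_combination h₂⟩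

end Cfsg.Agent.SP4
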