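import Cfsg.Agent.Lib.SP4.OddB1

/-!
S5260, `p` odd: extension of the torus of `Aut_F(E_k)` to `S` (step B3) and uniqueness of the
essential subgroup `E_k` (step B4).
-/

set_option autoImplicit false
set_option linter.style.haveILetI false
set_option linter.unusedVariables false
set_option linter.unusedSectionVars false

namespace Cfsg.Agent.SP4.OB

open Subgroup Cfsg.Agent.Fus Cfsg.Agent.Ess
open Cfsg.Agent.Fus2 (M afn HomOn img)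

universe u

variable {Ω : Type u} [Group Ω] {S : Subgroup Ω} {F : FusionSystem S} {E : Subgroup Ω} {p : ℕ}
  {K : Type*} [Field K]

/-- The automorphism `φ` of `S` acts with the weights `l, l⁻², l⁻¹, 1` and normalizes `E_k`. -/
structure Phi (D : Cd S K) (F : FusionSystem S) (k l : K) (φ : Ω → Ω) : Prop where
  m : M F S φ
  e : ∀ t b c, ∃ b' c', φ (D.f t (k * t) b c) = D.f (l * t) (k * (l * t)) b' c'
  a : ∀ a b c, ∃ b' c', φ (D.f 0 a b c) = D.f 0 (a / l ^ 2) b' c'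
  b : ∀ b c, ∃ c', φ (D.f 0 0 b c) = D.f 0 0 (b / l) c'
  c : ∀ c, φ (D.f 0 0 0 c) = D.f 0 0 0 c

/-- Action on `S / Z2`. -/
theorem Phi.top {D : Cd S K} {k l : K} {φ : Ω → Ω} (h : Phi D F k l φ) (t a b c : K) :
    ∃ b' c', φ (D.f t a b c) = D.f (l * t) (k * (l * t) + (a - k * t) / l ^ 2) b' c' := by
  have e : D.f t a b c = D.f t (k * t) 0 0 * D.f 0 (a - k * t) (b - t * (a - k * t))
      (c - 2 * t * (b - t * (a - k * t)) - t ^ 2 * (a - k * t)) := by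
    rw [D.mul, D.eq_iff]; refine ⟨?_, ?_, ?_, ?_⟩ <;> ring
  obtain ⟨b₁, c₁, h₁⟩ := h.e t 0 0
  obtain ⟨b₂, c₂, h₂⟩ := h.a (a - k * t) (b - t * (a - k * t))
    (c - 2 * t * (b - t * (a - k * t)) - t ^ 2 * (a - k * t))
  exact ⟨_, _, by rw [e, h.m.map_mul (D.f_mem ..) (D.f_mem ..), h₁, h₂, D.mul, add_zero]⟩

variable [Finite S] [hp : Fact p.Prime] (hS : IsPGroup p S) (hF : F.IsSaturated p) (D : Cd S K)
include hS hF

/-- Automorphisms trivial on a chain lie in the Sylow subgroup. -/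
theorem mem_of_triv {E : Subgroup Ω} (hE : F.IsFullyNormalized E) (hES : E ≤ S) {B : Subgroup Ω}
    (hZB : D.Z2 ≤ B) (hB : ∀ g ∈ S, ∀ x ∈ E, x⁻¹ * (g * x * g⁻¹) ∈ B)
    (hB' : ∀ g ∈ S, ∀ x ∈ E, x ∈ B → x⁻¹ * (g * x * g⁻¹) ∈ D.Z2)
    {β : MulAut E} (hβ : β ∈ F.autGroup E)
    (h₀ : ∀ x ∈ E, x⁻¹ * afn β x ∈ B) (h₁ : ∀ x ∈ E, x ∈ B → x⁻¹ * afn β x ∈ D.Z2)
    (h₂ : ∀ x ∈ E, x ∈ D.Z2 → x⁻¹ * afn β x ∈ D.Z) (h₃ : ∀ x ∈ E, x ∈ D.Z → afn β x = x) :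
    β ∈ autInducedBy S E := by
  haveI := finite_of_le hES
  have hE' := isPGroup_of_le hS hES
  have hT := sat_sylow hS hF hE
  let U : Subgroup (MulAut E) := F.autGroup E ⊓ ((trivSub ⊤ (B.subgroupOf E) le_top ⊓
    trivSub (B.subgroupOf E) (D.Z2.subgroupOf E) (comap_mono hZB)) ⊓
    (trivSub (D.Z2.subgroupOf E) (D.Z.subgroupOf E) (comap_mono D.Z_le_Z2) ⊓
      trivSub (D.Z.subgroupOf E) ⊥ bot_le))
  have hU : ∀ β, β ∈ U ↔ β ∈ F.autGroup E ∧ ((∀ x ∈ E, x⁻¹ * afn β x ∈ B) ∧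
      (∀ x ∈ E, x ∈ B → x⁻¹ * afn β x ∈ D.Z2)) ∧ (∀ x ∈ E, x ∈ D.Z2 → x⁻¹ * afn β x ∈ D.Z) ∧
      ∀ x ∈ E, x ∈ D.Z → afn β x = x := by
    intro β
    refine and_congr_right fun _ => and_congr (and_congr ?_ trivOn_subgroupOf_iff)
      (and_congr trivOn_subgroupOf_iff ?_)
    · show TrivOn β ⊤ _ ↔ _
      rw [← top_subgroupOf E, trivOn_subgroupOf_iff]
      exact ⟨fun h x hx => h x hx trivial, fun h x hx _ => h x hx⟩
    · show TrivOn β _ ⊥ ↔ _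
      rw [trivOn_bot_iff]
      exact ⟨fun h x hx hx' => by rw [Fus2.afn_apply _ hx, h ⟨x, hx⟩ hx'],
        fun h x hx => Subtype.ext (by rw [← Fus2.afn_coe, h x x.2 hx])⟩
  have hZn : (D.Z.subgroupOf E).Normal := normal_subgroupOf_of_le fun g hg =>
    mem_normalizer_of_commute fun x hx => (D.Z_comm hx (hES hg)).symm
  have hZ2n : (D.Z2.subgroupOf E).Normal :=
    normal_subgroupOf_of_le (hES.trans (D.le_normalizer D.Z2_le le_rfl))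
  have hp : IsPGroup p U := by
    refine Ctl.isPGroup (Ctl.trans_bot hE' (B := D.Z.subgroupOf E)
      (Ctl.trans_normal hE' (B := D.Z2.subgroupOf E) ?_
        (Ctl.trans_normal hE' (B := B.subgroupOf E) ?_ ?_ ?_) ?_) ?_)
    · exact fun β hβ x hx => by rw [trivOn_bot_iff.1 hβ.2.2.2 x hx]; exact hx
    · exact fun β hβ x hx => TrivOn.apply_mem hβ.2.2.1 (comap_mono D.Z_le_Z2) hx
    · exact ctl_of_trivOn fun β hβ => hβ.2.1.1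
    · exact ctl_of_trivOn fun β hβ => hβ.2.1.2
    · exact ctl_of_trivOn fun β hβ => hβ.2.2.1
    · exact ctl_of_trivOn fun β hβ => hβ.2.2.2
  have hTU : autInducedBy S E ≤ U := fun τ hτ => by
    obtain ⟨g, hg, e⟩ := Fus2.mem_autInducedBy_iff.1 hτ
    exact (hU τ).2 ⟨hT.le hτ, ⟨fun x hx => e x hx ▸ hB g hg x hx,
      fun x hx hx' => e x hx ▸ hB' g hg x hx hx'⟩, fun x hx hx' => e x hx ▸ D.icj_mem_Z hx' hg,
      fun x hx hx' => e x hx ▸ D.conj_Z hx' hg⟩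
  rw [← hT.eq_of_le hp hTU inf_le_left]
  exact (hU β).2 ⟨hβ, ⟨h₀, h₁⟩, h₂, h₃⟩

/-- An automorphism of `E ⊵ Z2` preserving `Z2` and `Z` extends to `S`. -/
theorem ext_of_inv {E : Subgroup Ω} (hE : F.IsFullyNormalized E) (hES : E ≤ S) (hZ : D.Z2 ≤ E)
    {η : MulAut E} (hη : η ∈ F.autGroup E) (h₁ : ∀ x ∈ D.Z2, afn η x ∈ D.Z2)
    (h₂ : ∀ x ∈ D.Z, afn η x ∈ D.Z) : ∃ φ, M F S φ ∧ ∀ x ∈ E, φ x = afn η x := by
  haveI := finite_of_le hES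
  haveI : Finite (MulAut E) := finite_mulAut'
  have hT := sat_sylow hS hF hE
  have h₁' : ∀ x ∈ D.Z2, afn η⁻¹ x ∈ D.Z2 := fun x hx => by
    have := (stabSub (D.Z2.subgroupOf E)).inv_mem (x := η)
      (fun y hy => by have := h₁ y hy; rwa [Fus2.afn_coe] at this) ⟨x, hZ hx⟩ hx
    rw [Fus2.afn_apply _ (hZ hx)]; exact this
  have h₂' : ∀ x ∈ D.Z, afn η⁻¹ x ∈ D.Z := fun x hx => by
    have := (stabSub (D.Z.subgroupOf E)).inv_mem (x := η)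
      (fun y hy => by have := h₂ y hy; rwa [Fus2.afn_coe] at this) ⟨x, hZ (D.Z_le_Z2 hx)⟩ hx
    rw [Fus2.afn_apply _ (hZ (D.Z_le_Z2 hx))]; exact this
  have hN : η ∈ normalizer (autInducedBy S E : Set (MulAut E)) := by
    refine mem_normalizer_fintype fun τ hτ => ?_
    obtain ⟨g, hg, e⟩ := Fus2.mem_autInducedBy_iff.1 hτ
    have h := Fus2.homOn_afn η
    have key : ∀ x ∈ E, x⁻¹ * afn (η * τ * η⁻¹) x =
        afn η ((afn η⁻¹ x)⁻¹ * (g * afn η⁻¹ x * g⁻¹)) := fun x hx => by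
      have hx' := Fus2.afn_mem η⁻¹ hx
      rw [← e _ hx', h.map_mul (inv_mem hx') (Fus2.afn_mem _ hx'), h.map_inv hx', Fus2.afn_afn_inv,
        Fus2.afn_mul, Fus2.afn_mul]
    refine mem_of_triv hS hF D hE hES (B := D.Z2) le_rfl
      (fun g hg x hx => D.icj_mem_Z2 (hES hx) hg) (fun g hg x hx _ => D.icj_mem_Z2 (hES hx) hg)
      (mul_mem (mul_mem hη (hT.le hτ)) (inv_mem hη)) (fun x hx => ?_) (fun x hx _ => ?_)
      (fun x hx hx' => ?_) fun x hx hx' => ?_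
    · rw [key x hx]; exact h₁ _ (D.icj_mem_Z2 (hES (Fus2.afn_mem _ hx)) hg)
    · rw [key x hx]; exact h₁ _ (D.icj_mem_Z2 (hES (Fus2.afn_mem _ hx)) hg)
    · rw [key x hx]; exact h₂ _ (D.icj_mem_Z (h₁' x hx') hg)
    · rw [← inv_mul_eq_one, ← inv_inj, mul_inv_rev, inv_inv, key x hx, D.conj_Z (h₂' x hx') hg,
        inv_mul_cancel, h.map_one, inv_one]
  obtain ⟨φ, hφ, -, e⟩ := exists_ext_normalizerIn hS hF hE hη hN
  have : FusionSystem.normalizerIn S E = S := le_antisymm (normalizerIn_le _) fun g hg =>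
    mem_normalizerIn.2 ⟨hg, D.le_normalizer hES hZ hg⟩
  exact ⟨φ, hφ.mono this.ge, e⟩

/-- Step B3: from the torus of `Aut_F(E_k)` to `Aut_F(S)`. -/
theorem exists_phi (h2 : (2 : K) ≠ 0) {k l : K} (hl : l ≠ 0) (hE : F.IsFullyNormalized (D.Ec k))
    {η : MulAut (D.Ec k)} (hη : η ∈ F.autGroup (D.Ec k))
    (h₁ : ∀ t b c, ∃ b' c', afn η (D.f t (k * t) b c) = D.f (l * t) (k * (l * t)) b' c')
    (h₂ : ∀ b c, ∃ c', afn η (D.f 0 0 b c) = D.f 0 0 (b / l) c')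
    (h₃ : ∀ c, afn η (D.f 0 0 0 c) = D.f 0 0 0 c) : ∃ φ, Phi D F k l φ := by
  obtain ⟨φ, hφ, e⟩ := ext_of_inv hS hF D hE (D.Ec_le k) (D.Z2_le_Ec k) hη
    (by rintro _ ⟨b, c, rfl⟩; obtain ⟨c', h⟩ := h₂ b c; rw [h]; exact D.mem_Z2.2 ⟨rfl, rfl⟩)
    (by rintro _ ⟨c, rfl⟩; rw [h₃]; exact D.mem_Z.2 ⟨rfl, rfl, rfl⟩)
  have hz : ∀ b c, D.f 0 0 b c ∈ D.Ec k := fun b c => D.mem_Ec.2 (mul_zero k).symm
  have e₁ : ∀ t b c, ∃ b' c', φ (D.f t (k * t) b c) = D.f (l * t) (k * (l * t)) b' c' :=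
    fun t b c => by rw [e _ (D.mem_Ec.2 rfl)]; exact h₁ t b c
  have e₂ : ∀ b c, ∃ c', φ (D.f 0 0 b c) = D.f 0 0 (b / l) c' :=
    fun b c => by rw [e _ (hz b c)]; exact h₂ b c
  refine ⟨φ, hφ, e₁, fun a b c => ?_, e₂, fun c => by rw [e _ (hz 0 c), h₃]⟩
  obtain ⟨t', a', b', c', h⟩ := (D.mem _).1 (hφ.mem (D.f_mem 0 a b c))
  have ht : t' = 0 := by
    obtain ⟨c₁, h₁⟩ := e₂ 1 0
    have : φ (D.f 0 a b c) * φ (D.f 0 0 1 0) = φ (D.f 0 0 1 0) * φ (D.f 0 a b c) := by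
      rw [← hφ.map_mul (D.f_mem ..) (D.f_mem ..), ← hφ.map_mul (D.f_mem ..) (D.f_mem ..),
        D.A_comm (D.mem_A.2 rfl) (D.mem_A.2 rfl)]
    rw [h, h₁, D.comm_iff] at this
    simpa [h2, hl] using this.2
  subst ht
  refine ⟨b', c', ?_⟩
  obtain ⟨b₁, c₁, h₁⟩ := e₁ 1 0 0
  have h₄ := hφ.map_mul (inv_mem (D.f_mem 0 a b c)) (mul_mem (mul_mem (D.f_mem 1 (k * 1) 0 0)
    (D.f_mem 0 a b c)) (inv_mem (D.f_mem 1 (k * 1) 0 0)))
  rw [hφ.map_inv (D.f_mem ..), hφ.map_conj (D.f_mem ..) (D.f_mem ..), h, h₁, D.icj, D.icj] at h₄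
  obtain ⟨c₂, h₂⟩ := e₂ (1 * a - 0 * (k * 1))
    (2 * 1 * b + 1 ^ 2 * a - 2 * 0 * 0 + 0 ^ 2 * (k * 1) - 2 * 0 * 1 * a)
  have h₅ := (D.inj (h₂.symm.trans h₄)).2.2.1
  have : a' = a / l ^ 2 := by
    field_simp at h₅ ⊢
    linear_combination h₅.symm
  rw [h, this]

/-- Step B4. -/
theorem eq_of_phi (h2 : (2 : K) ≠ 0) {k k' : K} {φ φ' : Ω → Ω} (h : Phi D F k (-1) φ)
    (h' : Phi D F k' (-1) φ') : k = k' := by
  have hm : M F S fun x => φ' (φ x) := h.m.comp h'.m fun x hx => h.m.mem hx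
  obtain ⟨β, hβ, e⟩ := hm.exists_aut' fun x hx => hm.mem hx
  have top : ∀ t a b c, ∃ b' c', afn β (D.f t a b c) = D.f t (a + 2 * (k' - k) * t) b' c' := by
    intro t a b c
    obtain ⟨b₁, c₁, h₁⟩ := h.top t a b c
    obtain ⟨b₂, c₂, h₂⟩ := h'.top (-1 * t) (k * (-1 * t) + (a - k * t) / (-1) ^ 2) b₁ c₁
    refine ⟨b₂, c₂, ?_⟩
    rw [e _ (D.f_mem ..), h₁, h₂, D.eq_iff]
    exact ⟨by ring, by ring, rfl, rfl⟩
  have hT := mem_of_triv hS hF D (fcr_of_top_or_essential hS hF (Or.inl rfl)).1 le_rfl D.Z2_le_A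
    (fun g hg x hx => D.Z2_le_A (D.icj_mem_Z2 hx hg)) (fun g hg x hx _ => D.icj_mem_Z2 hx hg) hβ
    (fun x hx => ?_) (fun x hx hx' => ?_) (fun x hx hx' => ?_) fun x hx hx' => ?_
  · obtain ⟨g, hg, e'⟩ := Fus2.mem_autInducedBy_iff.1 hT
    obtain ⟨s, α, β', γ, rfl⟩ := (D.mem _).1 hg
    obtain ⟨b', c', h₁⟩ := top 1 0 0 0
    rw [e' _ (D.f_mem ..), D.conj] at h₁
    have := (D.inj h₁).2.1
    have h₃ : 2 * (k' - k) = 0 := by linear_combination -this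
    exact (sub_eq_zero.1 ((mul_eq_zero.1 h₃).resolve_left h2)).symm
  · obtain ⟨t, a, b, c, rfl⟩ := (D.mem _).1 hx
    obtain ⟨b', c', h₁⟩ := top t a b c
    rw [h₁, D.inv, D.mul, D.mem_A]; ring
  · obtain ⟨a, b, c, rfl⟩ := hx'
    obtain ⟨b', c', h₁⟩ := top 0 a b c
    rw [h₁, D.inv, D.mul, D.mem_Z2]; constructor <;> ring
  · obtain ⟨b, c, rfl⟩ := hx'
    obtain ⟨c₁, h₁⟩ := h.b b c
    obtain ⟨c₂, h₂⟩ := h'.b (b / -1) c₁
    rw [e _ hx, h₁, h₂, D.inv, D.mul, D.mem_Z]; refine ⟨?_, ?_, ?_⟩ <;> ring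
  · obtain ⟨c, rfl⟩ := hx'
    rw [e _ hx, h.c, h'.c]

end Cfsg.Agent.SP4.OB
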